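import Mathlib.AlgebraicGeometry.ProjectiveSpectrum.Functor
import Mathlib.AlgebraicGeometry.Morphisms.ClosedImmersion

/-!
# Ring level facts on `Proj.map`, gradings by any family of additive subgroups

* `zeroHom`, `map_toSpecZero`: `Proj.map f ≫ toSpecZero = toSpecZero ≫ Spec.map f₀`;
* `awayι_comp_map'` (with `f s = t`);
* `isClosedImmersion_map` for `f` surjective in positive degrees (`PosSurj`), `mem_range_map_iff`.
-/

set_option autoImplicit false
universe u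
open CategoryTheory CategoryTheory.Limits AlgebraicGeometry HomogeneousLocalization
open scoped HomogeneousIdeal

namespace K37.ProjRing

variable {A B σ τ : Type u} [CommRing A] [SetLike σ A] [AddSubgroupClass σ A]
  [CommRing B] [SetLike τ B] [AddSubgroupClass τ B]
  {𝒜 : ℕ → σ} {ℬ : ℕ → τ} [GradedRing 𝒜] [GradedRing ℬ]
  (f : 𝒜 →+*ᵍ ℬ) (hf : ℬ₊ ≤ (𝒜₊).map f)

/-- The degree-zero component of a graded homomorphism. -/
def zeroHom : 𝒜 0 →+* ℬ 0 where
  toFun a := ⟨f a.1, f.map_mem a.2⟩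
  map_one' := Subtype.ext (map_one f)
  map_mul' a b := Subtype.ext (map_mul f a.1 b.1)
  map_zero' := Subtype.ext (map_zero f)
  map_add' a b := Subtype.ext (map_add f a.1 b.1)

theorem awayMap_fromZero (s : A) :
    (Away.map f s).comp (fromZeroRingHom 𝒜 _) = (fromZeroRingHom ℬ _).comp (zeroHom f) := by
  ext r
  change (Away.map f s (mk _)).val = (mk _).val
  rw [Away.map]
  erw [map_mk]
  rw [val_mk, val_mk]
  congr 1
  exact Subtype.ext (map_one f)

theorem awayι_map_toSpecZero {d : ℕ} (hd : 0 < d) {s : A} (hs : s ∈ 𝒜 d) :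
    Proj.awayι ℬ (f s) (f.map_mem hs) hd ≫ Proj.map f hf ≫ Proj.toSpecZero 𝒜 =
      Proj.awayι ℬ (f s) (f.map_mem hs) hd ≫ Proj.toSpecZero ℬ ≫ Spec.map (CommRingCat.ofHom (zeroHom f)) := by
  rw [Proj.awayι_toSpecZero_assoc, Proj.awayι_comp_map_assoc f hf hd _ hs, Proj.awayι_toSpecZero,
    ← Spec.map_comp, ← Spec.map_comp, ← CommRingCat.ofHom_comp, ← CommRingCat.ofHom_comp,
    awayMap_fromZero]

theorem map_toSpecZero :
    Proj.map f hf ≫ Proj.toSpecZero 𝒜 = Proj.toSpecZero ℬ ≫ Spec.map (CommRingCat.ofHom (zeroHom f)) :=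
  (Proj.mapAffineOpenCover f hf).openCover.hom_ext _ _ fun s => awayι_map_toSpecZero f hf s.1.2 s.2.2

/-- the homomorphism of homogeneous localizations, target given up to equality. -/
def awayMapTo {s : A} {t : B} (h : f s = t) : Away 𝒜 s →+* Away ℬ t :=
  HomogeneousLocalization.map f (by
    rintro _ ⟨n, rfl⟩
    exact ⟨n, by simp [h]⟩)

theorem awayMapTo_self (s : A) : awayMapTo f (rfl : f s = f s) = Away.map f s := rfl

theorem awayMapTo_mk {s : A} {t : B} (h : f s = t) {d : ℕ} (hs : s ∈ 𝒜 d) (ht : t ∈ ℬ d) (n : ℕ) (x : A)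
    (hx : x ∈ 𝒜 (n • d)) : awayMapTo f h (Away.mk 𝒜 hs n x hx) = Away.mk ℬ ht n (f x) (f.map_mem hx) := by
  subst h
  rw [awayMapTo_self, Away.map_mk]

theorem awayι_comp_map' {i : ℕ} (hi : 0 < i) {s : A} (hs : s ∈ 𝒜 i) {t : B} (h : f s = t) (ht : t ∈ ℬ i) :
    Proj.awayι ℬ t ht hi ≫ Proj.map f hf =
      Spec.map (CommRingCat.ofHom (awayMapTo f h)) ≫ Proj.awayι 𝒜 s hs hi := by
  subst h
  exact Proj.awayι_comp_map f hf hi s hs

theorem map_congr {f g : 𝒜 →+*ᵍ ℬ} (h : f = g) (hf : ℬ₊ ≤ (𝒜₊).map f) (hg : ℬ₊ ≤ (𝒜₊).map g) :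
    Proj.map f hf = Proj.map g hg := by
  subst h; rfl

theorem mk_succ {s : B} {i : ℕ} (hs : s ∈ ℬ i) (n : ℕ) (x : B) (hx : x ∈ ℬ (n • i))
    (hx' : s * x ∈ ℬ ((n + 1) • i)) :
    Away.mk ℬ hs (n + 1) (s * x) hx' = Away.mk ℬ hs n x hx := by
  apply HomogeneousLocalization.val_injective
  rw [Away.val_mk, Away.val_mk, Localization.mk_eq_mk_iff, Localization.r_iff_exists]
  refine ⟨1, ?_⟩
  change 1 * (s ^ n * (s * x)) = 1 * (s ^ (n + 1) * x)
  ring

/-- Surjectivity in positive degrees. -/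
def PosSurj : Prop := ∀ (i : ℕ), 0 < i → ∀ b : B, b ∈ ℬ i → ∃ a ∈ 𝒜 i, f a = b

variable {f}

theorem irrelevant_le_map (hs : PosSurj f) : ℬ₊ ≤ (𝒜₊).map f := by
  rw [HomogeneousIdeal.irrelevant_le]
  intro i hi b hb
  obtain ⟨a, ha, rfl⟩ := hs i hi b hb
  exact Ideal.mem_map_of_mem _ (HomogeneousIdeal.mem_irrelevant_of_mem 𝒜 hi ha)

theorem away_map_surjective (hs : PosSurj f) {d : ℕ} (hd0 : 0 < d) (s : A) (hd : s ∈ 𝒜 d) :
    Function.Surjective (Away.map f s : Away 𝒜 s →+* Away ℬ (f s)) := by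
  intro z
  obtain ⟨n, b, hb, rfl⟩ := HomogeneousLocalization.Away.mk_surjective ℬ (f.2 hd) z
  have hb' : f s * b ∈ ℬ ((n + 1) • d) := by
    rw [add_smul, one_smul, add_comm]
    exact SetLike.mul_mem_graded (f.2 hd) hb
  obtain ⟨a, ha, hab⟩ := hs ((n + 1) • d) (Nat.mul_pos n.succ_pos hd0) _ hb'
  refine ⟨Away.mk 𝒜 hd (n + 1) a ha, ?_⟩
  rw [Away.map_mk, ← mk_succ (f.2 hd) n b hb hb']
  congr 1

theorem isIso_awayToSection {m : ℕ} (hm : 0 < m) (s : A) (hs : s ∈ 𝒜 m) :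
    IsIso (Proj.awayToSection 𝒜 s) :=
  inferInstanceAs (IsIso (Proj.basicOpenIsoAway 𝒜 s hs hm).hom)

theorem isPullback_chart {i : ℕ} (hi : 0 < i) (s : A) (hs : s ∈ 𝒜 i) :
    IsPullback (Spec.map (CommRingCat.ofHom (Away.map f s))) (Proj.awayι ℬ (f s) (f.2 hs) hi)
      (Proj.awayι 𝒜 s hs hi) (Proj.map f hf) := by
  apply IsOpenImmersion.isPullback
  · exact Proj.awayι_comp_map f hf hi s hs
  · have h1 : (Proj.awayι 𝒜 s hs hi).opensRange = Proj.basicOpen 𝒜 s :=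
      Proj.opensRange_awayι _ _ _ _
    have h2 : (Proj.awayι ℬ (f s) (f.2 hs) hi).opensRange = Proj.basicOpen ℬ (f s) :=
      Proj.opensRange_awayι _ _ _ _
    rw [h1, h2]
    rfl

theorem chart_of (Q : MorphismProperty Scheme.{u}) [IsZariskiLocalAtTarget Q] {d : ℕ} (hd : 0 < d) {s : A}
    (hs : s ∈ 𝒜 d) (h : Q (Spec.map (CommRingCat.ofHom (Away.map f s)))) :
    Q (pullback.snd (Proj.map f hf) (Proj.awayι 𝒜 s hs hd)) := by
  have h1 := isPullback_chart (f := f) hf hd s hs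
  have h3 : pullback.snd (Proj.map f hf) (Proj.awayι 𝒜 s hs hd) =
      h1.flip.isoPullback.inv ≫ Spec.map (CommRingCat.ofHom (Away.map f s)) := by
    simp
  rw [h3, Q.cancel_left_of_respectsIso]
  exact h

/-- A property local on the target may be checked on the standard charts. -/
theorem map_of_charts (Q : MorphismProperty Scheme.{u}) [IsZariskiLocalAtTarget Q]
    (h : ∀ (d : ℕ) (_ : 0 < d) (s : A) (_ : s ∈ 𝒜 d), Q (Spec.map (CommRingCat.ofHom (Away.map f s)))) :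
    Q (Proj.map f hf) := by
  rw [IsZariskiLocalAtTarget.iff_of_openCover (P := Q) (Proj.affineOpenCover 𝒜).openCover]
  exact fun s => chart_of hf Q s.1.2 s.2.2 (h _ s.1.2 _ s.2.2)

theorem isClosedImmersion_map (hs : PosSurj f) : IsClosedImmersion (Proj.map f hf) := by
  apply map_of_charts hf @IsClosedImmersion
  intro d hd s hsd
  exact IsClosedImmersion.spec_of_surjective _ (away_map_surjective hs hd s hsd)

theorem exists_awayι_eq (x : Proj 𝒜) : ∃ (d : ℕ) (hd : 0 < d) (s : A) (hs : s ∈ 𝒜 d)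
    (w : Spec (CommRingCat.of (Away 𝒜 s))), Proj.awayι 𝒜 s hs hd w = x := by
  obtain ⟨y, hy⟩ := (Proj.affineOpenCover 𝒜).covers x
  exact ⟨_, ((Proj.affineOpenCover 𝒜).idx x).1.2, _, ((Proj.affineOpenCover 𝒜).idx x).2.2, y, hy⟩

theorem mem_awayι_iff {d : ℕ} (hd : 0 < d) {s : A} (hs : s ∈ 𝒜 d) (w : Spec (CommRingCat.of (Away 𝒜 s)))
    {m : ℕ} (hm : 0 < m) {g : A} (hg : g ∈ 𝒜 m) :
    g ∈ (Proj.awayι 𝒜 s hs hd w).asHomogeneousIdeal ↔ (Away.isLocalizationElem hs hg : Away 𝒜 s) ∈ w.asIdeal := by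
  rw [← not_iff_not]
  have h4 : g ∉ (Proj.awayι 𝒜 s hs hd w).asHomogeneousIdeal ↔
          w ∈ Proj.awayι 𝒜 s hs hd ⁻¹ᵁ Proj.basicOpen 𝒜 g := Iff.rfl
  rw [h4, Proj.awayι_preimage_basicOpen 𝒜 hs hd hg hm]
  exact Iff.rfl

theorem isLocalizationElem_pow_mul {d : ℕ} {s : A} (hs : s ∈ 𝒜 d) (k n : ℕ) (a : A) (ha : a ∈ 𝒜 (n • d))
    (hdeg : s ^ k * a ∈ 𝒜 ((k + n) • d)) :
    (Away.isLocalizationElem hs hdeg : Away 𝒜 s) = (Away.mk 𝒜 hs n a ha) ^ d := by
  have hdeg' : (s ^ k * a) ^ d ∈ 𝒜 (((k + n) • d) • d) := by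
    rw [smul_eq_mul ((k + n) • d) d, mul_comm, ← smul_eq_mul d ((k + n) • d)]
    exact SetLike.pow_mem_graded _ hdeg
  have e : (Away.isLocalizationElem hs hdeg : Away 𝒜 s) =
      Away.mk 𝒜 hs ((k + n) • d) ((s ^ k * a) ^ d) hdeg' := rfl
  apply HomogeneousLocalization.val_injective
  rw [e, val_pow, Away.val_mk, Away.val_mk, Localization.mk_pow, Localization.mk_eq_mk_iff,
    Localization.r_iff_exists]
  refine ⟨1, ?_⟩
  simp only [OneMemClass.coe_one, one_mul, SubmonoidClass.coe_pow]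
  rw [mul_pow, ← pow_mul, ← pow_mul, ← mul_assoc, ← pow_add, smul_eq_mul]
  congr 2
  ring

theorem exists_pow_mul_eq_zero {d : ℕ} {s : A} (hs : s ∈ 𝒜 d) (n : ℕ) (a : A) (ha : a ∈ 𝒜 (n • d))
    (hq : Away.mk 𝒜 hs n a ha = 0) : ∃ k, s ^ k * a = 0 := by
  have h1 := congrArg HomogeneousLocalization.val hq
  rw [Away.val_mk, val_zero, ← Localization.mk_zero 1, Localization.mk_eq_mk_iff,
    Localization.r_iff_exists] at h1
  obtain ⟨⟨_, k, rfl⟩, hk⟩ := h1
  exact ⟨k, by simpa using hk⟩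

/-- The image of `Proj` of a map surjective in positive degrees. -/
theorem mem_range_map_iff (hs : PosSurj f) (x : Proj 𝒜) :
    x ∈ Set.range (Proj.map f hf) ↔
      ∀ (d : ℕ) (a : A), 0 < d → a ∈ 𝒜 d → f a = 0 → a ∈ x.asHomogeneousIdeal := by
  constructor
  · rintro ⟨y, rfl⟩ d a _ _ ha
    change f a ∈ (ProjectiveSpectrum.asHomogeneousIdeal (𝒜 := ℬ) y).toIdeal
    rw [ha]
    exact zero_mem _
  · intro h
    obtain ⟨d, hd, s, hsd, w, rfl⟩ := exists_awayι_eq x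
    have hker : RingHom.ker (Away.map f s) ≤ w.asIdeal := by
      intro q hq
      obtain ⟨n, a, ha, rfl⟩ := HomogeneousLocalization.Away.mk_surjective 𝒜 hsd q
      rw [RingHom.mem_ker, Away.map_mk] at hq
      obtain ⟨k, hk⟩ := exists_pow_mul_eq_zero (f.map_mem hsd) n (f a) (f.map_mem ha) hq
      have hk' : f s ^ k * f a = 0 := hk
      have h2 : f (s ^ (k + 1) * a) = 0 := by
        rw [map_mul, map_pow, pow_succ', mul_assoc, hk', mul_zero]
      have hdeg : s ^ (k + 1) * a ∈ 𝒜 ((k + 1 + n) • d) := by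
        rw [add_smul]
        exact SetLike.mul_mem_graded (SetLike.pow_mem_graded _ hsd) ha
      have hpos : 0 < (k + 1 + n) • d := Nat.mul_pos (by omega) hd
      have h3 := h _ _ hpos hdeg h2
      rw [mem_awayι_iff hd hsd w hpos hdeg, isLocalizationElem_pow_mul hsd (k + 1) n a ha hdeg] at h3
      exact w.isPrime.mem_of_pow_mem _ h3
    have hr : w ∈ Set.range (Spec.map (CommRingCat.ofHom (Away.map f s))) := by
      change w ∈ Set.range (PrimeSpectrum.comap (Away.map f s))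
      rw [range_comap_of_surjective _ _ (away_map_surjective hs hd s hsd)]
      exact hker
    obtain ⟨v, rfl⟩ := hr
    refine ⟨Proj.awayι ℬ (f s) (f.map_mem hsd) hd v, ?_⟩
    rw [← Scheme.Hom.comp_apply, ← Scheme.Hom.comp_apply, Proj.awayι_comp_map f hf hd _ hsd]

end K37.ProjRing
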