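import Groth.Prelude.Def_RelSpec
import Groth.Agent.CohqB.RelSpec

/-!
# Charts of a relative spectrum `RelSpec.QCAlg.spec`

* `isPullback_ι`, `exists_chart`, `hom_ext`, `existsUnique_desc` (morphisms out of `A.spec`);
* `fromSpec_hom_ext`, `existsUnique_fromSpec_desc` (morphisms out of the base);
* `ι_res'` (restriction to any smaller affine open), `ι_eq_ι` (points with the same image in two charts).
-/

set_option autoImplicit false
universe u
open CategoryTheory CategoryTheory.Limits AlgebraicGeometry Opposite TopologicalSpace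

namespace K37.SpecBase

variable {S : Scheme.{u}} (A : RelSpec.QCAlg S)

theorem isPullback_ι (U : S.Opens) (hU : IsAffineOpen U) :
    IsPullback (A.ι U hU) (Spec.map (A.str.app (op U))) A.π hU.fromSpec :=
  Groth.Agent.CohqB.RelSpec.isPullback_ι A.coequifibered ⟨U, hU⟩

theorem exists_chart (c : A.spec) :
    ∃ (U : S.Opens) (hU : IsAffineOpen U) (x : Spec (A.presheaf.obj (op U))), A.ι U hU x = c := by
  obtain ⟨y, hy⟩ := A.glueData.cover.covers c
  exact ⟨_, (A.glueData.cover.idx c).2, y, hy⟩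

/-- a point of `A.spec` over a point of `U` lies in the chart over `U`. -/
theorem exists_of_mem (U : S.Opens) (hU : IsAffineOpen U) (c : A.spec) (hc : A.π c ∈ U) :
    ∃ x : Spec (A.presheaf.obj (op U)), A.ι U hU x = c := by
  have : c ∈ A.π ⁻¹ᵁ U := hc
  rw [A.π_preimage U hU] at this
  exact this

theorem hom_ext {Z : Scheme.{u}} {a b : A.spec ⟶ Z}
    (h : ∀ (U : S.Opens) (hU : IsAffineOpen U), A.ι U hU ≫ a = A.ι U hU ≫ b) : a = b :=
  A.glueData.cover.hom_ext _ _ fun U => h U.1 U.2

theorem existsUnique_desc {Z : Scheme.{u}}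
    (f : ∀ (U : S.Opens) (_ : IsAffineOpen U), Spec (A.presheaf.obj (op U)) ⟶ Z)
    (hf : ∀ (U : S.Opens) (hU : IsAffineOpen U) (r : Γ(S, U)),
      Spec.map (A.presheaf.map (homOfLE (S.basicOpen_le r)).op) ≫ f U hU =
        f (S.basicOpen r) (hU.basicOpen r)) :
    ∃! g : A.spec ⟶ Z, ∀ (U : S.Opens) (hU : IsAffineOpen U), A.ι U hU ≫ g = f U hU := by
  let c : Cocone A.glueData.functor :=
    { pt := Z
      ι := { app := fun U => f U.1 U.2
             naturality := by
              rintro ⟨U, hU⟩ ⟨V, hV⟩ i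
              obtain ⟨r, hr⟩ := i.le
              change S.basicOpen r = U at hr
              subst hr
              change Spec.map (A.presheaf.map _) ≫ f V hV = f (S.basicOpen r) hU ≫ 𝟙 Z
              rw [Category.comp_id]
              exact hf V hV r } }
  refine ⟨colimit.desc _ c, fun U hU => colimit.ι_desc c (⟨U, hU⟩ : S.AffineZariskiSite), fun g hg => ?_⟩
  apply hom_ext A
  intro U hU
  rw [hg U hU]
  exact (colimit.ι_desc c (⟨U, hU⟩ : S.AffineZariskiSite)).symm

theorem fromSpec_hom_ext {Z : Scheme.{u}} {a b : S ⟶ Z}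
    (h : ∀ (U : S.Opens) (hU : IsAffineOpen U), hU.fromSpec ≫ a = hU.fromSpec ≫ b) : a = b :=
  (Scheme.AffineZariskiSite.isColimitCocone (X := S)).hom_ext fun U => h U.1 U.2

theorem existsUnique_fromSpec_desc {Z : Scheme.{u}}
    (f : ∀ (U : S.Opens) (_ : IsAffineOpen U), Spec Γ(S, U) ⟶ Z)
    (hf : ∀ (U : S.Opens) (hU : IsAffineOpen U) (r : Γ(S, U)),
      Spec.map (S.presheaf.map (homOfLE (S.basicOpen_le r)).op) ≫ f U hU =
        f (S.basicOpen r) (hU.basicOpen r)) :
    ∃! g : S ⟶ Z, ∀ (U : S.Opens) (hU : IsAffineOpen U), hU.fromSpec ≫ g = f U hU := by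
  let c : Cocone (Scheme.AffineZariskiSite.toOpensFunctor S ⋙ S.presheaf.rightOp ⋙ Scheme.Spec) :=
    { pt := Z
      ι := { app := fun U => f U.1 U.2
             naturality := by
              rintro ⟨U, hU⟩ ⟨V, hV⟩ i
              obtain ⟨r, hr⟩ := i.le
              change S.basicOpen r = U at hr
              subst hr
              change Spec.map (S.presheaf.map _) ≫ f V hV = f (S.basicOpen r) hU ≫ 𝟙 Z
              rw [Category.comp_id]
              exact hf V hV r } }
  refine ⟨(Scheme.AffineZariskiSite.isColimitCocone (X := S)).desc c,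
    fun U hU => (Scheme.AffineZariskiSite.isColimitCocone (X := S)).fac c (⟨U, hU⟩ : S.AffineZariskiSite),
    fun g hg => ?_⟩
  apply fromSpec_hom_ext
  intro U hU
  rw [hg U hU]
  exact ((Scheme.AffineZariskiSite.isColimitCocone (X := S)).fac c (⟨U, hU⟩ : S.AffineZariskiSite)).symm

/-- restriction to a basic open, in the form `W = D(r)` given up to equality. -/
theorem ι_res_of_eq {U W : S.Opens} (hU : IsAffineOpen U) (hW : IsAffineOpen W) (r : Γ(S, U))
    (h : S.basicOpen r = W) (i : W ≤ U) :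
    Spec.map (A.presheaf.map (homOfLE i).op) ≫ A.ι U hU = A.ι W hW := by
  subst h
  exact A.ι_res (U := ⟨U, hU⟩) (V := ⟨S.basicOpen r, hW⟩) (homOfLE ⟨r, rfl⟩)

/-- restriction to any smaller affine open. -/
theorem ι_res' {U W : S.Opens} (hU : IsAffineOpen U) (hW : IsAffineOpen W) (i : W ≤ U) :
    Spec.map (A.presheaf.map (homOfLE i).op) ≫ A.ι U hU = A.ι W hW := by
  -- cover `Spec A(W)` by the charts over opens basic in both
  have key : ∀ x : Spec (A.presheaf.obj (op W)), ∃ (D : S.Opens) (_ : IsAffineOpen D) (f : Γ(S, U)) (g : Γ(S, W))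
      (_ : S.basicOpen f = D) (_ : S.basicOpen g = D) (k : D ≤ W)
      (y : Spec (A.presheaf.obj (op D))), Spec.map (A.presheaf.map (homOfLE k).op) y = x := by
    intro x
    have hx : A.π (A.ι W hW x) ∈ W := by
      have : A.ι W hW x ∈ A.π ⁻¹ᵁ W := by
        rw [A.π_preimage W hW]
        exact ⟨x, rfl⟩
      exact this
    obtain ⟨f, g, e, hp⟩ := exists_basicOpen_le_affine_inter hU hW _ ⟨i hx, hx⟩
    have hD : IsAffineOpen (S.basicOpen g) := hW.basicOpen g
    obtain ⟨y, hy⟩ := exists_of_mem A (S.basicOpen g) hD (A.ι W hW x) (e ▸ hp)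
    refine ⟨S.basicOpen g, hD, f, g, e, rfl, S.basicOpen_le g, y, ?_⟩
    apply (A.ι W hW).isOpenEmbedding.injective
    rw [← hy, ← ι_res_of_eq A hW hD g rfl (S.basicOpen_le g)]
    rfl
  choose D hD f g ef eg k y hy using key
  have hop : ∀ x, IsOpenImmersion (Spec.map (A.presheaf.map (homOfLE (k x)).op)) := by
    intro x
    have : IsOpenImmersion (Spec.map (A.presheaf.map (homOfLE (k x)).op) ≫ A.ι W hW) := by
      rw [ι_res_of_eq A hW (hD x) (g x) (eg x) (k x)]
      infer_instance
    exact IsOpenImmersion.of_comp _ (A.ι W hW)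
  let 𝒰 : (Spec (A.presheaf.obj (op W))).OpenCover :=
    { I₀ := Spec (A.presheaf.obj (op W))
      X := fun x => Spec (A.presheaf.obj (op (D x)))
      f := fun x => Spec.map (A.presheaf.map (homOfLE (k x)).op)
      mem₀ := by
        rw [Scheme.presieve₀_mem_precoverage_iff]
        exact ⟨fun x => ⟨x, y x, hy x⟩, hop⟩ }
  apply 𝒰.hom_ext
  intro x
  change Spec.map (A.presheaf.map (homOfLE (k x)).op) ≫ _ = Spec.map (A.presheaf.map (homOfLE (k x)).op) ≫ _
  rw [ι_res_of_eq A hW (hD x) (g x) (eg x) (k x), ← Category.assoc, ← Spec.map_comp, ← Functor.map_comp]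
  exact ι_res_of_eq A hU (hD x) (f x) (ef x) ((k x).trans i)

/-- Two points of two charts with the same image come from a chart over an open basic in both. -/
theorem ι_eq_ι {U V : S.Opens} (hU : IsAffineOpen U) (hV : IsAffineOpen V)
    (x : Spec (A.presheaf.obj (op U))) (y : Spec (A.presheaf.obj (op V))) (h : A.ι U hU x = A.ι V hV y) :
    ∃ (f : Γ(S, U)) (g : Γ(S, V)) (W : S.Opens) (hW : IsAffineOpen W) (_ : S.basicOpen f = W)
      (_ : S.basicOpen g = W) (iU : W ≤ U) (iV : W ≤ V) (w : Spec (A.presheaf.obj (op W))),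
      Spec.map (A.presheaf.map (homOfLE iU).op) w = x ∧ Spec.map (A.presheaf.map (homOfLE iV).op) w = y := by
  have hx : A.π (A.ι U hU x) ∈ U := by
    have : A.ι U hU x ∈ A.π ⁻¹ᵁ U := by rw [A.π_preimage U hU]; exact ⟨x, rfl⟩
    exact this
  have hy : A.π (A.ι U hU x) ∈ V := by
    have : A.ι U hU x ∈ A.π ⁻¹ᵁ V := by rw [A.π_preimage V hV, h]; exact ⟨y, rfl⟩
    exact this
  obtain ⟨f, g, e, hp⟩ := exists_basicOpen_le_affine_inter hU hV _ ⟨hx, hy⟩
  have hW : IsAffineOpen (S.basicOpen f) := hU.basicOpen f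
  have iV : S.basicOpen f ≤ V := e ▸ S.basicOpen_le g
  obtain ⟨w, hw⟩ := exists_of_mem A (S.basicOpen f) hW (A.ι U hU x) hp
  refine ⟨f, g, S.basicOpen f, hW, rfl, e.symm, S.basicOpen_le f, iV, w, ?_, ?_⟩
  · apply (A.ι U hU).isOpenEmbedding.injective
    rw [← hw, ← ι_res_of_eq A hU hW f rfl (S.basicOpen_le f)]
    rfl
  · apply (A.ι V hV).isOpenEmbedding.injective
    rw [← h, ← hw, ← ι_res_of_eq A hV hW g e.symm iV]
    rfl

end K37.SpecBase
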