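import Groth.Prelude.Def_RelProj2
import Groth.Agent.EGA2.K37.ProjRing
import Groth.Agent.EGA2.K37.SpecBase

/-!
# Charts of a relative Proj

For `p : P ⟶ S`, `chart` the data of a relative Proj of `𝒮`:
* `opensRange_emb`, `exists_of_mem`, `exists_chart`, `hom_ext` (no hypothesis);
* under `IsRelProj`: `emb_p`, `emb_res_of_eq`, `emb_eq_emb`;
* for `IsRelProjMap`: `emb_comp`, `comp_p`, `isPullback_emb`, `of_charts`.
-/

set_option autoImplicit false
universe u
open CategoryTheory CategoryTheory.Limits AlgebraicGeometry Opposite TopologicalSpace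
open scoped HomogeneousIdeal

namespace K37.ProjBase

variable {S : Scheme.{u}} {𝒮 : RelProj.QCGrAlg S} {P : Scheme.{u}} (p : P ⟶ S)
  (chart : ∀ (U : S.Opens) (hU : IsAffineOpen U), (((p ⁻¹ᵁ U : P.Opens) : Scheme.{u}) ≅ Proj (𝒮.deg U hU)))

theorem opensRange_emb (U : S.Opens) (hU : IsAffineOpen U) :
    (RelProj.emb p chart U hU).opensRange = p ⁻¹ᵁ U := by
  unfold RelProj.emb
  rw [Scheme.Hom.opensRange_comp_of_isIso, Scheme.Opens.opensRange_ι]

theorem emb_mem (U : S.Opens) (hU : IsAffineOpen U) (x : Proj (𝒮.deg U hU)) :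
    p (RelProj.emb p chart U hU x) ∈ U := by
  have h : RelProj.emb p chart U hU x ∈ (RelProj.emb p chart U hU).opensRange := ⟨x, rfl⟩
  rw [opensRange_emb] at h
  exact h

theorem exists_of_mem (U : S.Opens) (hU : IsAffineOpen U) (c : P) (hc : p c ∈ U) :
    ∃ x : Proj (𝒮.deg U hU), RelProj.emb p chart U hU x = c := by
  have h : c ∈ p ⁻¹ᵁ U := hc
  rw [← opensRange_emb p chart U hU] at h
  exact h

theorem exists_affine_nhd (s : S) (V : S.Opens) (hs : s ∈ V) :
    ∃ U : S.Opens, IsAffineOpen U ∧ s ∈ U ∧ U ≤ V := by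
  obtain ⟨_, ⟨U, hU, rfl⟩, hx, hUV⟩ := S.isBasis_affineOpens.exists_subset_of_mem_open hs V.2
  exact ⟨U, hU, hx, hUV⟩

theorem exists_chart (c : P) :
    ∃ (U : S.Opens) (hU : IsAffineOpen U) (x : Proj (𝒮.deg U hU)), RelProj.emb p chart U hU x = c := by
  obtain ⟨U, hU, hc, -⟩ := exists_affine_nhd (p c) ⊤ trivial
  obtain ⟨x, hx⟩ := exists_of_mem p chart U hU c hc
  exact ⟨U, hU, x, hx⟩

/-- The open cover of `P` by the charts. -/
noncomputable def cover : P.OpenCover where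
  I₀ := {U : S.Opens // IsAffineOpen U}
  X U := Proj (𝒮.deg U.1 U.2)
  f U := RelProj.emb p chart U.1 U.2
  mem₀ := by
    rw [Scheme.presieve₀_mem_precoverage_iff]
    refine ⟨fun c => ?_, fun U => inferInstance⟩
    obtain ⟨U, hU, x, hx⟩ := exists_chart p chart c
    exact ⟨⟨U, hU⟩, x, hx⟩

include chart in
theorem hom_ext {Z : Scheme.{u}} {a b : P ⟶ Z}
    (h : ∀ (U : S.Opens) (hU : IsAffineOpen U),
      RelProj.emb p chart U hU ≫ a = RelProj.emb p chart U hU ≫ b) : a = b :=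
  (cover p chart).hom_ext _ _ fun U => h U.1 U.2

variable {p chart} (hP : RelProj.IsRelProj 𝒮 p chart)

include hP in
theorem emb_p (U : S.Opens) (hU : IsAffineOpen U) :
    RelProj.emb p chart U hU ≫ p =
      Proj.toSpecZero (𝒮.deg U hU) ≫ Spec.map (𝒮.strZero U hU) ≫ hU.fromSpec := by
  rw [RelProj.emb, Category.assoc, ← hP.chart_over U hU, Iso.inv_hom_id_assoc]

variable (𝒮) in
theorem irr_of_eq {U W : S.Opens} (hU : IsAffineOpen U) (hW : IsAffineOpen W) (r : Γ(S, U))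
    (h : S.basicOpen r = W) (i : W ≤ U) :
    (𝒮.deg W hW)₊ ≤ ((𝒮.deg U hU)₊).map (𝒮.res hU hW i) := by
  subst h
  exact 𝒮.irrelevant_le_map U hU r

include hP in
theorem emb_res_of_eq {U W : S.Opens} (hU : IsAffineOpen U) (hW : IsAffineOpen W) (r : Γ(S, U))
    (h : S.basicOpen r = W) (i : W ≤ U) :
    Proj.map (𝒮.res hU hW i) (irr_of_eq 𝒮 hU hW r h i) ≫ RelProj.emb p chart U hU =
      RelProj.emb p chart W hW := by
  subst h
  exact RelProj.map_res_emb hP U hU r

include hP in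
/-- Two points of two charts with the same image come from a chart over an open basic in both. -/
theorem emb_eq_emb {U V : S.Opens} (hU : IsAffineOpen U) (hV : IsAffineOpen V)
    (x : Proj (𝒮.deg U hU)) (y : Proj (𝒮.deg V hV))
    (h : RelProj.emb p chart U hU x = RelProj.emb p chart V hV y) :
    ∃ (f : Γ(S, U)) (g : Γ(S, V)) (W : S.Opens) (hW : IsAffineOpen W) (ef : S.basicOpen f = W)
      (eg : S.basicOpen g = W) (iU : W ≤ U) (iV : W ≤ V) (w : Proj (𝒮.deg W hW)),
      Proj.map (𝒮.res hU hW iU) (irr_of_eq 𝒮 hU hW f ef iU) w = x ∧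
        Proj.map (𝒮.res hV hW iV) (irr_of_eq 𝒮 hV hW g eg iV) w = y := by
  have hx := emb_mem p chart U hU x
  have hy : p (RelProj.emb p chart U hU x) ∈ V := by rw [h]; exact emb_mem p chart V hV y
  obtain ⟨f, g, e, hp⟩ := exists_basicOpen_le_affine_inter hU hV _ ⟨hx, hy⟩
  have hW : IsAffineOpen (S.basicOpen f) := hU.basicOpen f
  have iV : S.basicOpen f ≤ V := e ▸ S.basicOpen_le g
  obtain ⟨w, hw⟩ := exists_of_mem p chart (S.basicOpen f) hW _ hp
  refine ⟨f, g, S.basicOpen f, hW, rfl, e.symm, S.basicOpen_le f, iV, w, ?_, ?_⟩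
  · apply (RelProj.emb p chart U hU).isOpenEmbedding.injective
    rw [← hw, ← emb_res_of_eq hP hU hW f rfl (S.basicOpen_le f), Scheme.Hom.comp_apply]
  · apply (RelProj.emb p chart V hV).isOpenEmbedding.injective
    rw [← h, ← hw, ← emb_res_of_eq hP hV hW g e.symm iV, Scheme.Hom.comp_apply]

section map

variable {𝒜 ℬ : RelProj.QCGrAlg S} {φ : 𝒜.toQCAlg ⟶ ℬ.toQCAlg} {hφ : RelProj.IsGradedHom φ}
    {hirr : ∀ (U : S.Opens) (hU : IsAffineOpen U),
      (ℬ.deg U hU)₊ ≤ ((𝒜.deg U hU)₊).map (RelProj.gradedHomAt φ hφ U hU)}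
    {PA PB : Scheme.{u}} {pA : PA ⟶ S} {pB : PB ⟶ S}
    {chartA : ∀ (U : S.Opens) (hU : IsAffineOpen U), ((pA ⁻¹ᵁ U : PA.Opens) : Scheme.{u}) ≅ Proj (𝒜.deg U hU)}
    {chartB : ∀ (U : S.Opens) (hU : IsAffineOpen U), ((pB ⁻¹ᵁ U : PB.Opens) : Scheme.{u}) ≅ Proj (ℬ.deg U hU)}
    {h : PB ⟶ PA} (hh : RelProj.IsRelProjMap φ hφ hirr chartA chartB h)

include hh in
theorem emb_comp (U : S.Opens) (hU : IsAffineOpen U) :
    RelProj.emb pB chartB U hU ≫ h =
      Proj.map (RelProj.gradedHomAt φ hφ U hU) (hirr U hU) ≫ RelProj.emb pA chartA U hU := by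
  rw [RelProj.emb, RelProj.emb, Category.assoc, hh U hU, Iso.inv_hom_id_assoc]

theorem strZero_comp (φ : 𝒜.toQCAlg ⟶ ℬ.toQCAlg) (hφ : RelProj.IsGradedHom φ) (U : S.Opens)
    (hU : IsAffineOpen U) :
    𝒜.strZero U hU ≫ CommRingCat.ofHom (ProjRing.zeroHom (RelProj.gradedHomAt φ hφ U hU)) =
      ℬ.strZero U hU := by
  ext r
  change (φ.hom.app (op U)).hom ((𝒜.str.app (op U)).hom r) = (ℬ.str.app (op U)).hom r
  rw [← φ.comm]
  rfl

include hh in
theorem comp_p (hA : RelProj.IsRelProj 𝒜 pA chartA) (hB : RelProj.IsRelProj ℬ pB chartB) :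
    h ≫ pA = pB := by
  apply hom_ext pB chartB
  intro U hU
  rw [← Category.assoc, emb_comp hh U hU, Category.assoc, emb_p hA, emb_p hB, ← Category.assoc,
    ProjRing.map_toSpecZero, Category.assoc, ← Spec.map_comp_assoc]
  congr 2
  exact congrArg Spec.map (strZero_comp φ hφ U hU)

include hh in
theorem isPullback_emb (hA : RelProj.IsRelProj 𝒜 pA chartA) (hB : RelProj.IsRelProj ℬ pB chartB)
    (U : S.Opens) (hU : IsAffineOpen U) :
    IsPullback (Proj.map (RelProj.gradedHomAt φ hφ U hU) (hirr U hU)) (RelProj.emb pB chartB U hU)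
      (RelProj.emb pA chartA U hU) h := by
  apply IsOpenImmersion.isPullback
  · exact emb_comp hh U hU
  · rw [opensRange_emb, opensRange_emb, ← Scheme.Hom.comp_preimage, comp_p hh hA hB]

include hh in
/-- a property local on the target holds for `h` if it holds for the maps of the charts. -/
theorem of_charts (hA : RelProj.IsRelProj 𝒜 pA chartA) (hB : RelProj.IsRelProj ℬ pB chartB)
    (Q : MorphismProperty Scheme.{u}) [IsZariskiLocalAtTarget Q]
    (hQ : ∀ (U : S.Opens) (hU : IsAffineOpen U),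
      Q (Proj.map (RelProj.gradedHomAt φ hφ U hU) (hirr U hU))) : Q h := by
  rw [IsZariskiLocalAtTarget.iff_of_openCover (P := Q) (cover pA chartA)]
  rintro ⟨U, hU⟩
  have h1 := isPullback_emb hh hA hB U hU
  have h3 : pullback.snd h (RelProj.emb pA chartA U hU) =
      h1.flip.isoPullback.inv ≫ Proj.map (RelProj.gradedHomAt φ hφ U hU) (hirr U hU) := by
    simp
  change Q (pullback.snd h (RelProj.emb pA chartA U hU))
  rw [h3, Q.cancel_left_of_respectsIso]
  exact hQ U hU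

include hh in
theorem emb_mem_range_iff (hA : RelProj.IsRelProj 𝒜 pA chartA) (hB : RelProj.IsRelProj ℬ pB chartB)
    (U : S.Opens) (hU : IsAffineOpen U) (x : Proj (𝒜.deg U hU)) :
    RelProj.emb pA chartA U hU x ∈ Set.range h ↔
      x ∈ Set.range (Proj.map (RelProj.gradedHomAt φ hφ U hU) (hirr U hU)) := by
  constructor
  · rintro ⟨y, hy⟩
    have hyU : pB y ∈ U := by
      rw [← comp_p hh hA hB, Scheme.Hom.comp_apply, hy]
      exact emb_mem pA chartA U hU x
    obtain ⟨y', rfl⟩ := exists_of_mem pB chartB U hU y hyU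
    refine ⟨y', (RelProj.emb pA chartA U hU).isOpenEmbedding.injective ?_⟩
    rw [← hy, ← Scheme.Hom.comp_apply, ← Scheme.Hom.comp_apply, emb_comp hh U hU]
  · rintro ⟨y, rfl⟩
    refine ⟨RelProj.emb pB chartB U hU y, ?_⟩
    rw [← Scheme.Hom.comp_apply, ← Scheme.Hom.comp_apply, emb_comp hh U hU]

end map

end K37.ProjBase
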