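import Mathlib.RingTheory.GradedAlgebra.Homogeneous.Ideal
import Mathlib.RingTheory.GradedAlgebra.Basic
import Mathlib.Algebra.Algebra.Operations
import Mathlib.AlgebraicGeometry.ProjectiveSpectrum.Basic

/-!
# Graded rings generated in degree one (over degree zero)

`mem_pow`: elements of degree `d > 0` are sums of products of `d` elements of degree one;
`irrelevant_le_span`, `exists_deg_one_notMem`.
-/

set_option autoImplicit false
universe u
open AlgebraicGeometry
open scoped HomogeneousIdeal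

namespace K37.GenOne

set_option linter.unusedSectionVars false

variable {A σ : Type u} [CommRing A] [SetLike σ A] [AddSubgroupClass σ A] (𝒜 : ℕ → σ) [GradedRing 𝒜]

/-- Generated by degree one over degree zero. -/
def Gen : Prop := Subring.closure ((𝒜 0 : Set A) ∪ (𝒜 1 : Set A)) = ⊤

/-- The degree-one part as an additive subgroup. -/
def one : Submodule ℤ A := AddSubgroup.toIntSubmodule (AddSubgroup.ofClass (𝒜 1))

variable {𝒜}

theorem mem_one {a : A} : a ∈ one 𝒜 ↔ a ∈ 𝒜 1 := Iff.rfl

theorem pow_le (d : ℕ) {a : A} (ha : a ∈ one 𝒜 ^ d) : a ∈ 𝒜 d := by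
  induction d generalizing a with
  | zero =>
    rw [pow_zero, Submodule.mem_one] at ha
    obtain ⟨n, rfl⟩ := ha
    have h1 : (1 : A) ∈ 𝒜 0 := SetLike.GradedOne.one_mem
    have : (algebraMap ℤ A) n = n • (1 : A) := by simp
    rw [this]
    exact zsmul_mem h1 n
  | succ d ih =>
    rw [pow_succ] at ha
    refine Submodule.mul_induction_on ha ?_ ?_
    · intro m hm n hn
      exact SetLike.mul_mem_graded (ih hm) hn
    · intro x y hx hy
      exact add_mem hx hy

theorem zero_mul_pow (d : ℕ) {c a : A} (hc : c ∈ 𝒜 0) (ha : a ∈ one 𝒜 ^ (d + 1)) :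
    c * a ∈ one 𝒜 ^ (d + 1) := by
  rw [pow_succ'] at ha ⊢
  refine Submodule.mul_induction_on ha ?_ ?_
  · intro m hm n hn
    rw [← mul_assoc]
    refine Submodule.mul_mem_mul ?_ hn
    have : c * m ∈ 𝒜 (0 + 1) := SetLike.mul_mem_graded hc hm
    rw [zero_add] at this
    exact this
  · intro x y hx hy
    rw [mul_add]
    exact add_mem hx hy

variable (𝒜) in
/-- degree zero, and the powers of degree one. -/
def piece : ℕ → Set A
  | 0 => (𝒜 0 : Set A)
  | d + 1 => (one 𝒜 ^ (d + 1) : Submodule ℤ A)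

theorem piece_mul {i k : ℕ} {a b : A} (ha : a ∈ piece 𝒜 i) (hb : b ∈ piece 𝒜 k) :
    a * b ∈ piece 𝒜 (i + k) := by
  match i, k with
  | 0, 0 =>
    have : a * b ∈ 𝒜 (0 + 0) := SetLike.mul_mem_graded (show a ∈ 𝒜 0 from ha) (show b ∈ 𝒜 0 from hb)
    exact this
  | 0, k + 1 =>
    rw [zero_add]
    exact zero_mul_pow k ha hb
  | i + 1, 0 =>
    rw [add_zero, mul_comm]
    exact zero_mul_pow i hb ha
  | i + 1, k + 1 =>
    have e : i + 1 + (k + 1) = (i + 1 + k) + 1 := by ring
    rw [e]
    change a * b ∈ one 𝒜 ^ (i + 1 + k + 1)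
    have e' : i + 1 + k + 1 = (i + 1) + (k + 1) := by ring
    rw [e', pow_add]
    exact Submodule.mul_mem_mul ha hb

theorem piece_le {d : ℕ} {a : A} (ha : a ∈ piece 𝒜 d) : a ∈ 𝒜 d := by
  match d with
  | 0 => exact ha
  | d + 1 => exact pow_le (d + 1) ha

theorem zero_mem_piece (d : ℕ) : (0 : A) ∈ piece 𝒜 d := by
  match d with
  | 0 => exact zero_mem (𝒜 0)
  | d + 1 => exact zero_mem (one 𝒜 ^ (d + 1))

theorem add_mem_piece {d : ℕ} {a b : A} (ha : a ∈ piece 𝒜 d) (hb : b ∈ piece 𝒜 d) : a + b ∈ piece 𝒜 d := by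
  match d with
  | 0 => exact add_mem (S := σ) ha hb
  | d + 1 => exact add_mem (S := Submodule ℤ A) ha hb

theorem neg_mem_piece {d : ℕ} {a : A} (ha : a ∈ piece 𝒜 d) : -a ∈ piece 𝒜 d := by
  match d with
  | 0 => exact neg_mem (S := σ) ha
  | d + 1 => exact neg_mem (S := Submodule ℤ A) ha

theorem closure_piece (hgen : Gen 𝒜) : AddSubgroup.closure (⋃ d, piece 𝒜 d) = ⊤ := by
  let T : Subring A :=
    { carrier := AddSubgroup.closure (⋃ d, piece 𝒜 d)
      zero_mem' := zero_mem _
      add_mem' := add_mem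
      neg_mem' := neg_mem
      one_mem' := AddSubgroup.subset_closure (Set.mem_iUnion.mpr ⟨0, SetLike.GradedOne.one_mem⟩)
      mul_mem' := by
        intro a b ha hb
        induction ha, hb using AddSubgroup.closure_induction₂ with
        | mem x y hx hy =>
          obtain ⟨i, hi⟩ := Set.mem_iUnion.mp hx
          obtain ⟨k, hk⟩ := Set.mem_iUnion.mp hy
          exact AddSubgroup.subset_closure (Set.mem_iUnion.mpr ⟨i + k, piece_mul hi hk⟩)
        | zero_left x hx => rw [zero_mul]; exact zero_mem _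
        | zero_right x hx => rw [mul_zero]; exact zero_mem _
        | add_left x y z _ _ _ h1 h2 => rw [add_mul]; exact add_mem h1 h2
        | add_right x y z _ _ _ h1 h2 => rw [mul_add]; exact add_mem h1 h2
        | neg_left x y _ _ h => rw [neg_mul]; exact neg_mem h
        | neg_right x y _ _ h => rw [mul_neg]; exact neg_mem h }
  have hT : T = ⊤ := by
    rw [eq_top_iff, ← show Subring.closure _ = ⊤ from hgen, Subring.closure_le]
    rintro a (ha | ha)
    · exact AddSubgroup.subset_closure (Set.mem_iUnion.mpr ⟨0, ha⟩)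
    · refine AddSubgroup.subset_closure (Set.mem_iUnion.mpr ⟨1, ?_⟩)
      change a ∈ one 𝒜 ^ 1
      rw [pow_one]
      exact ha
  rw [eq_top_iff]
  intro a _
  have : a ∈ T := hT ▸ Subring.mem_top a
  exact this

theorem mem_piece (hgen : Gen 𝒜) {d : ℕ} {a : A} (ha : a ∈ 𝒜 d) : a ∈ piece 𝒜 d := by
  classical
  have key : ∀ x : A, x ∈ AddSubgroup.closure (⋃ d, piece 𝒜 d) → ∀ d,
      (DirectSum.decompose 𝒜 x d : A) ∈ piece 𝒜 d := by
    intro x hx
    induction hx using AddSubgroup.closure_induction with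
    | mem x hx =>
      intro d
      obtain ⟨i, hi⟩ := Set.mem_iUnion.mp hx
      by_cases h : i = d
      · subst h
        rw [DirectSum.decompose_of_mem_same 𝒜 (piece_le hi)]
        exact hi
      · rw [DirectSum.decompose_of_mem_ne 𝒜 (piece_le hi) h]
        exact zero_mem_piece d
    | zero =>
      intro d
      rw [DirectSum.decompose_zero]
      exact zero_mem_piece d
    | add x y _ _ hx hy =>
      intro d
      rw [DirectSum.decompose_add, DirectSum.add_apply, AddMemClass.coe_add]
      exact add_mem_piece (hx d) (hy d)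
    | neg x _ hx =>
      intro d
      rw [DirectSum.decompose_neg]
      exact neg_mem_piece (hx d)
  have h := key a (by rw [closure_piece hgen]; trivial) d
  rwa [DirectSum.decompose_of_mem_same 𝒜 ha] at h

/-- Elements of degree `d > 0` are sums of products of `d` elements of degree one. -/
theorem mem_pow (hgen : Gen 𝒜) {d : ℕ} (hd : 0 < d) {a : A} (ha : a ∈ 𝒜 d) : a ∈ one 𝒜 ^ d := by
  obtain ⟨k, rfl⟩ := Nat.exists_eq_succ_of_ne_zero hd.ne'
  exact mem_piece hgen ha

theorem irrelevant_le_span (hgen : Gen 𝒜) : 𝒜₊.toIdeal ≤ Ideal.span (𝒜 1 : Set A) := by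
  rw [HomogeneousIdeal.toIdeal_irrelevant_le]
  intro d hd a ha
  have h := mem_pow hgen hd ha
  obtain ⟨k, rfl⟩ := Nat.exists_eq_succ_of_ne_zero (show d ≠ 0 from hd.ne')
  rw [pow_succ] at h
  refine Submodule.mul_induction_on h ?_ ?_
  · intro m _ n hn
    exact Ideal.mul_mem_left _ _ (Ideal.subset_span hn)
  · intro x y hx hy
    exact add_mem hx hy

/-- The opens `D_+(f)`, `f` of degree one, cover. -/
theorem exists_deg_one_notMem (hgen : Gen 𝒜) (x : Proj 𝒜) : ∃ f ∈ 𝒜 1, f ∉ x.asHomogeneousIdeal := by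
  by_contra h
  push Not at h
  apply x.not_irrelevant_le
  exact (irrelevant_le_span hgen).trans (Ideal.span_le.mpr h)

end K37.GenOne
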