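import Mathlib.AlgebraicGeometry.Morphisms.SchemeTheoreticallyDominant
import Mathlib.AlgebraicGeometry.ProjectiveSpectrum.Proper
import Mathlib.AlgebraicGeometry.IdealSheaf.Basic

/-!
# Checking properties on a cover of the target through given pullback squares

* `of_squares` for target-local properties, `ker_eq_bot_of_squares` for `f.ker = ⊥`;
* `isPullback_awayι`, `isAffineHom_awayι`, `ker_awayι_eq_bot`.
-/

set_option autoImplicit false
universe u
open CategoryTheory CategoryTheory.Limits AlgebraicGeometry HomogeneousLocalization TopologicalSpace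

namespace K37.LocTarget

set_option backward.isDefEq.respectTransparency.types false in
theorem isZariskiLocalAtTarget_isAffineHom : IsZariskiLocalAtTarget (@IsAffineHom.{u}) := inferInstance

section general

variable {X Y : Scheme.{u}} (f : X ⟶ Y) (𝒰 : Y.OpenCover.{u}) (X' : 𝒰.I₀ → Scheme.{u})
  (f' : ∀ j, X' j ⟶ 𝒰.X j) (k : ∀ j, X' j ⟶ X) (h : ∀ j, IsPullback (f' j) (k j) (𝒰.f j) f)

include h in
theorem of_squares (Q : MorphismProperty Scheme.{u}) [IsZariskiLocalAtTarget Q] (hQ : ∀ j, Q (f' j)) : Q f := by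
  rw [IsZariskiLocalAtTarget.iff_of_openCover (P := Q) 𝒰]
  intro j
  have h3 : pullback.snd f (𝒰.f j) = (h j).flip.isoPullback.inv ≫ f' j := by
    simp
  change Q (pullback.snd f (𝒰.f j))
  rw [h3, Q.cancel_left_of_respectsIso]
  exact hQ j

include h in
theorem ker_eq_bot_of_squares [QuasiCompact f] (hk : ∀ j, (f' j).ker = ⊥) : f.ker = ⊥ := by
  let W : (Σ j, (𝒰.X j).affineOpens) → Y.affineOpens := fun a =>
    ⟨𝒰.f a.1 ''ᵁ a.2.1, a.2.2.image_of_isOpenImmersion _⟩
  refine Scheme.IdealSheafData.ext_of_iSup_eq_top (ι := Σ j, (𝒰.X j).affineOpens) W ?_ ?_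
  · rw [eq_top_iff]
    intro y _
    obtain ⟨j, x, rfl⟩ := 𝒰.exists_eq y
    obtain ⟨_, ⟨V, hV, rfl⟩, hx, -⟩ := (𝒰.X j).isBasis_affineOpens.exists_subset_of_mem_open
      (Set.mem_univ x) isOpen_univ
    exact Opens.mem_iSup.mpr ⟨⟨j, ⟨V, hV⟩⟩, x, hx, rfl⟩
  · rintro ⟨j, V⟩
    have h1 := Scheme.ker_ideal_of_isPullback_of_isOpenImmersion f (f' j) (k j) (𝒰.f j) (h j) V
    rw [hk j] at h1
    change f.ker.ideal ⟨𝒰.f j ''ᵁ V.1, _⟩ = ⊥
    rw [eq_bot_iff]
    intro s hs
    have hbij := ConcreteCategory.bijective_of_isIso ((𝒰.f j).appIso V.1).inv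
    obtain ⟨t, rfl⟩ := hbij.2 s
    have h2 : t ∈ (⊥ : Ideal Γ(𝒰.X j, V.1)) := by
      have : (⊥ : (𝒰.X j).IdealSheafData).ideal V = ⊥ := rfl
      rw [← this, h1]
      exact hs
    rw [Ideal.mem_bot] at h2 ⊢
    rw [h2, map_zero]

theorem ker_SpecMap_eq_bot {R S : CommRingCat.{u}} (φ : R ⟶ S) (hφ : Function.Injective φ.hom) :
    (Spec.map φ).ker = ⊥ := by
  refine Scheme.IdealSheafData.ext_of_isAffine ?_
  rw [Scheme.Hom.ker_apply]
  change RingHom.ker ((Spec.map φ).appTop).hom = ⊥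
  rw [← RingHom.injective_iff_ker_eq_bot]
  have h1 := Scheme.ΓSpecIso_naturality φ
  have h2 : (Spec.map φ).appTop = (Scheme.ΓSpecIso R).hom ≫ φ ≫ (Scheme.ΓSpecIso S).inv := by
    rw [← Category.assoc, ← h1, Category.assoc, Iso.hom_inv_id, Category.comp_id]
  rw [h2]
  have b1 := (ConcreteCategory.bijective_of_isIso (Scheme.ΓSpecIso R).hom).1
  have b2 := (ConcreteCategory.bijective_of_isIso (Scheme.ΓSpecIso S).inv).1
  exact b2.comp (hφ.comp b1)

end general

section proj

variable {A σ : Type u} [CommRing A] [SetLike σ A] [AddSubgroupClass σ A] (𝒜 : ℕ → σ) [GradedRing 𝒜]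
  {d e : ℕ} {f g : A} (hf : f ∈ 𝒜 d) (hd : 0 < d) (hg : g ∈ 𝒜 e) (he : 0 < e)

include hf in
theorem awayMap_injective (hreg : ∀ a : A, g * a = 0 → a = 0) :
    Function.Injective (awayMap 𝒜 hg (rfl : f * g = f * g)) := by
  rw [injective_iff_map_eq_zero]
  intro q hq
  obtain ⟨n, a, ha, rfl⟩ := Away.mk_surjective 𝒜 hf q
  rw [awayMap_mk] at hq
  have h1 := congrArg HomogeneousLocalization.val hq
  rw [Away.val_mk, val_zero, ← Localization.mk_zero 1, Localization.mk_eq_mk_iff,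
    Localization.r_iff_exists] at h1
  obtain ⟨⟨_, k, rfl⟩, hk⟩ := h1
  have hpow : ∀ (m : ℕ) (b : A), g ^ m * b = 0 → b = 0 := by
    intro m
    induction m with
    | zero => intro b hb; simpa using hb
    | succ m ih =>
      intro b hb
      rw [pow_succ, mul_assoc] at hb
      exact hreg _ (ih _ hb)
  have h2 : f ^ k * a = 0 := by
    apply hpow (k + n)
    have h3 : (f * g) ^ k * (a * g ^ n) = 0 := by simpa using hk
    rw [← h3, mul_pow, pow_add]
    ring
  apply HomogeneousLocalization.val_injective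
  rw [Away.val_mk, val_zero, ← Localization.mk_zero 1, Localization.mk_eq_mk_iff,
    Localization.r_iff_exists]
  exact ⟨⟨f ^ k, k, rfl⟩, by simpa using h2⟩

theorem isPullback_awayι :
    IsPullback (Spec.map (CommRingCat.ofHom (awayMap 𝒜 hg (rfl : f * g = f * g))))
      (Spec.map (CommRingCat.ofHom (awayMap 𝒜 hf (mul_comm f g))))
      (Proj.awayι 𝒜 f hf hd) (Proj.awayι 𝒜 g hg he) := by
  have : IsOpenImmersion (Spec.map (CommRingCat.ofHom (awayMap 𝒜 hf (mul_comm f g))) ≫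
      Proj.awayι 𝒜 g hg he) := by
    rw [Proj.SpecMap_awayMap_awayι]
    infer_instance
  have : IsOpenImmersion (Spec.map (CommRingCat.ofHom (awayMap 𝒜 hf (mul_comm f g)))) :=
    IsOpenImmersion.of_comp _ (Proj.awayι 𝒜 g hg he)
  apply IsOpenImmersion.isPullback
  · rw [Proj.SpecMap_awayMap_awayι, Proj.SpecMap_awayMap_awayι]
    rfl
  · ext1
    have h1 := Proj.opensRange_awayι 𝒜 f hf hd
    have h2 := Proj.awayι_preimage_basicOpen 𝒜 hg he hf hd
    rw [h1, h2]
    let := (awayMap (f := g) 𝒜 hf (mul_comm f g)).toAlgebra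
    let := HomogeneousLocalization.Away.isLocalization_mul hg hf (mul_comm f g) he.ne'
    exact (PrimeSpectrum.localization_away_comap_range _ _).symm

theorem isAffineHom_awayι : IsAffineHom (Proj.awayι 𝒜 f hf hd) := by
  have : IsAffineHom (Proj.awayι 𝒜 f hf hd ≫ Proj.toSpecZero 𝒜) := by
    rw [Proj.awayι_toSpecZero]
    infer_instance
  exact IsAffineHom.of_comp _ (Proj.toSpecZero 𝒜)

/-- If `g` is a nonzerodivisor then `D_+(g)` is schematically dense. -/
theorem ker_awayι_eq_bot (hreg : ∀ a : A, g * a = 0 → a = 0) : (Proj.awayι 𝒜 g hg he).ker = ⊥ := by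
  have := isAffineHom_awayι 𝒜 hg he
  refine ker_eq_bot_of_squares (Proj.awayι 𝒜 g hg he) (Proj.affineOpenCover 𝒜).openCover
    (fun s => Spec (CommRingCat.of (Away 𝒜 ((s.2 : A) * g)))) _ _
    (fun s => isPullback_awayι 𝒜 s.2.2 s.1.2 hg he) (fun s => ?_)
  exact ker_SpecMap_eq_bot _ (awayMap_injective 𝒜 (hf := s.2.2) (hg := hg) hreg)

end proj

end K37.LocTarget
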