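import Mathlib.AlgebraicGeometry.Pullbacks
import Mathlib.AlgebraicGeometry.PullbackCarrier
import Groth.Agent.EGA2.K37.LocTarget

/-!
# A square of schemes is cartesian if it is so on suitable charts
-/

set_option autoImplicit false
universe u
open CategoryTheory CategoryTheory.Limits AlgebraicGeometry TopologicalSpace

namespace K37.PullbackCrit

theorem isPullback_comp_mono {C : Type*} [Category C] {P X Y Z W : C} {f : P ⟶ X} {g : P ⟶ Y} {h : X ⟶ Z}
    {k : Y ⟶ Z} (H : IsPullback f g h k) (m : Z ⟶ W) [Mono m] : IsPullback f g (h ≫ m) (k ≫ m) := by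
  refine ⟨⟨by rw [← Category.assoc, ← Category.assoc, H.w]⟩, ⟨?_⟩⟩
  exact PullbackCone.isLimitOfCompMono h k m _ H.isLimit

variable {X Y Z P : Scheme.{u}} {f : X ⟶ Z} {g : Y ⟶ Z} {a : P ⟶ X} {b : P ⟶ Y} (w : a ≫ f = b ≫ g)
  {J : Type u} (X' Y' P' : J → Scheme.{u}) (i : ∀ j, X' j ⟶ X) (k : ∀ j, Y' j ⟶ Y) (e : ∀ j, P' j ⟶ P)
  [∀ j, IsOpenImmersion (i j)] [∀ j, IsOpenImmersion (k j)] [∀ j, IsOpenImmersion (e j)]
  (a' : ∀ j, P' j ⟶ X' j) (b' : ∀ j, P' j ⟶ Y' j) (ha : ∀ j, a' j ≫ i j = e j ≫ a)
  (hb : ∀ j, b' j ≫ k j = e j ≫ b)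

include w ha hb in
/-- Suppose `X'_j → X`, `Y'_j → Y`, `P'_j → P` are open immersions with compatible maps, that the
`P'_j`-squares are cartesian, that `a⁻¹(X'_j) ∩ b⁻¹(Y'_j) ⊆ P'_j` and that every point of `X ×_Z Y` lies
in some `X'_j × Y'_j`.  Then the big square is cartesian. -/
theorem isPullback_of_charts (H : ∀ j, IsPullback (a' j) (b' j) (i j ≫ f) (k j ≫ g))
    (hr : ∀ (j : J) (x : P), a x ∈ Set.range (i j) → b x ∈ Set.range (k j) → x ∈ Set.range (e j))
    (hcov : ∀ (x : X) (y : Y), f x = g y → ∃ j, x ∈ Set.range (i j) ∧ y ∈ Set.range (k j)) :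
    IsPullback a b f g := by
  let t : P ⟶ pullback f g := pullback.lift a b w
  let c : ∀ j, P' j ⟶ pullback f g := fun j =>
    (H j).isoPullback.hom ≫ pullback.map (i j ≫ f) (k j ≫ g) f g (i j) (k j) (𝟙 Z) (by simp) (by simp)
  have hc : ∀ j, c j = e j ≫ t := by
    intro j
    apply pullback.hom_ext
    · have h1 : pullback.map (i j ≫ f) (k j ≫ g) f g (i j) (k j) (𝟙 Z) (by simp) (by simp) ≫
          pullback.fst f g = pullback.fst _ _ ≫ i j := pullback.lift_fst _ _ _
      have h2 : t ≫ pullback.fst f g = a := pullback.lift_fst _ _ _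
      calc c j ≫ pullback.fst f g = (H j).isoPullback.hom ≫ (pullback.map (i j ≫ f) (k j ≫ g) f g
            (i j) (k j) (𝟙 Z) (by simp) (by simp) ≫ pullback.fst f g) := Category.assoc _ _ _
        _ = (H j).isoPullback.hom ≫ (pullback.fst _ _ ≫ i j) := by rw [h1]
        _ = a' j ≫ i j := by rw [← Category.assoc, IsPullback.isoPullback_hom_fst]
        _ = e j ≫ a := ha j
        _ = e j ≫ (t ≫ pullback.fst f g) := by rw [h2]
        _ = _ := (Category.assoc _ _ _).symm
    · have h1 : pullback.map (i j ≫ f) (k j ≫ g) f g (i j) (k j) (𝟙 Z) (by simp) (by simp) ≫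
          pullback.snd f g = pullback.snd _ _ ≫ k j := pullback.lift_snd _ _ _
      have h2 : t ≫ pullback.snd f g = b := pullback.lift_snd _ _ _
      calc c j ≫ pullback.snd f g = (H j).isoPullback.hom ≫ (pullback.map (i j ≫ f) (k j ≫ g) f g
            (i j) (k j) (𝟙 Z) (by simp) (by simp) ≫ pullback.snd f g) := Category.assoc _ _ _
        _ = (H j).isoPullback.hom ≫ (pullback.snd _ _ ≫ k j) := by rw [h1]
        _ = b' j ≫ k j := by rw [← Category.assoc, IsPullback.isoPullback_hom_snd]
        _ = e j ≫ b := hb j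
        _ = e j ≫ (t ≫ pullback.snd f g) := by rw [h2]
        _ = _ := (Category.assoc _ _ _).symm
  have hrange : ∀ j, Set.range (c j) = pullback.fst f g ⁻¹' Set.range (i j) ∩
      pullback.snd f g ⁻¹' Set.range (k j) := by
    intro j
    rw [← Scheme.Pullback.range_map (i j ≫ f) (k j ≫ g) f g (i j) (k j) (𝟙 Z) (by simp) (by simp)]
    simp only [c, Scheme.Hom.comp_base, TopCat.coe_comp]
    exact (H j).isoPullback.hom.homeomorph.surjective.range_comp _
  have hopen : ∀ j, IsOpenImmersion (c j) := fun j => inferInstance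
  let 𝒰 : (pullback f g).OpenCover :=
    { I₀ := J
      X := P'
      f := c
      mem₀ := by
        rw [Scheme.presieve₀_mem_precoverage_iff]
        refine ⟨fun x => ?_, hopen⟩
        obtain ⟨j, h1, h2⟩ := hcov (pullback.fst f g x) (pullback.snd f g x) (by
          rw [← Scheme.Hom.comp_apply, ← Scheme.Hom.comp_apply, pullback.condition])
        refine ⟨j, ?_⟩
        change x ∈ Set.range (c j)
        rw [hrange]
        exact ⟨h1, h2⟩ }
  have hsq : ∀ j, IsPullback (𝟙 (P' j)) (e j) (𝒰.f j) t := by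
    intro j
    apply IsOpenImmersion.isPullback
    · rw [Category.id_comp]
      exact (hc j).symm
    · ext1
      rw [Scheme.Hom.coe_opensRange]
      ext x
      symm
      constructor
      · rintro ⟨y, rfl⟩
        exact ⟨y, (congrArg (fun φ => φ y) (hc j)).trans (Scheme.Hom.comp_apply _ _ _)⟩
      · intro hx
        have hx' : t x ∈ Set.range (c j) := hx
        rw [hrange] at hx'
        obtain ⟨h1, h2⟩ := hx'
        apply hr j x
        · have : pullback.fst f g (t x) = a x := by
            rw [← Scheme.Hom.comp_apply, pullback.lift_fst]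
          rwa [Set.mem_preimage, this] at h1
        · have : pullback.snd f g (t x) = b x := by
            rw [← Scheme.Hom.comp_apply, pullback.lift_snd]
          rwa [Set.mem_preimage, this] at h2
  have ht : MorphismProperty.isomorphisms Scheme.{u} t :=
    LocTarget.of_squares t 𝒰 _ _ _ hsq (MorphismProperty.isomorphisms Scheme.{u})
      fun j => MorphismProperty.isomorphisms.infer_property (𝟙 (P' j))
  have : IsIso t := ht
  exact IsPullback.of_iso_pullback ⟨w⟩ (asIso t) (pullback.lift_fst _ _ _) (pullback.lift_snd _ _ _)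

end K37.PullbackCrit
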