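import Groth.Agent.EGA2.K37.ProjBC
import Groth.Agent.EGA2.K37.ProjBase
import Groth.Agent.EGA2.K37.PullbackCrit

/-!
# Base change of a relative Proj
-/

set_option autoImplicit false
universe u
open CategoryTheory CategoryTheory.Limits AlgebraicGeometry Opposite TopologicalSpace
open scoped HomogeneousIdeal

namespace K37.RelProjBC

open ProjBase

variable {Y Y' P P' : Scheme.{u}} (ψ : Y' ⟶ Y)

/-- Pairs of affine opens `U' ⊆ ψ⁻¹(U)`. -/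
def Idx : Type u :=
  {q : Y.Opens × Y'.Opens // IsAffineOpen q.1 ∧ IsAffineOpen q.2 ∧ q.2 ≤ ψ ⁻¹ᵁ q.1}

theorem exists_idx (y : Y') (V : Y.Opens) (hV : ψ y ∈ V) :
    ∃ q : Idx ψ, y ∈ q.1.2 ∧ q.1.1 ≤ V ∧ ψ y ∈ q.1.1 := by
  obtain ⟨U, hU, hy, hUV⟩ := exists_affine_nhd (ψ y) V hV
  obtain ⟨U', hU', hy', hle⟩ := exists_affine_nhd y (ψ ⁻¹ᵁ U) hy
  exact ⟨⟨(U, U'), hU, hU', hle⟩, hy', hUV, hy⟩

variable {ψ} {𝒮' : RelProj.QCGrAlg Y'} (p' : P' ⟶ Y')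
    (chart' : ∀ (U' : Y'.Opens) (hU' : IsAffineOpen U'), (((p' ⁻¹ᵁ U' : P'.Opens) : Scheme.{u}) ≅ Proj (𝒮'.deg U' hU')))

/-- The open cover of `P'` by the charts over the `U'`. -/
noncomputable def cover' : P'.OpenCover where
  I₀ := Idx ψ
  X q := Proj (𝒮'.deg q.1.2 q.2.2.1)
  f q := RelProj.emb p' chart' q.1.2 q.2.2.1
  mem₀ := by
    rw [Scheme.presieve₀_mem_precoverage_iff]
    refine ⟨fun c => ?_, fun U => inferInstance⟩
    obtain ⟨q, hq, -, -⟩ := exists_idx ψ (p' c) ⊤ trivial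
    obtain ⟨x, hx⟩ := exists_of_mem p' chart' q.1.2 q.2.2.1 c hq
    exact ⟨q, x, hx⟩

include chart' in
theorem hom_ext' {Z : Scheme.{u}} {a b : P' ⟶ Z}
    (h : ∀ q : Idx ψ, RelProj.emb p' chart' q.1.2 q.2.2.1 ≫ a = RelProj.emb p' chart' q.1.2 q.2.2.1 ≫ b) :
    a = b :=
  (cover' (ψ := ψ) p' chart').hom_ext _ _ fun q => h q

variable {p' chart'} {𝒮 : RelProj.QCGrAlg Y} {p : P ⟶ Y}
    {chart : ∀ (U : Y.Opens) (hU : IsAffineOpen U), (((p ⁻¹ᵁ U : P.Opens) : Scheme.{u}) ≅ Proj (𝒮.deg U hU))}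
    (hP : RelProj.IsRelProj 𝒮 p chart) (hP' : RelProj.IsRelProj 𝒮' p' chart')

include hP in
theorem chart_isPullback {U : Y.Opens} (hU : IsAffineOpen U) {U' : Y'.Opens} (hU' : IsAffineOpen U')
    (hle : U' ≤ ψ ⁻¹ᵁ U) (φ : 𝒮.deg U hU →+*ᵍ 𝒮'.deg U' hU')
    (hpo : IsPushout (ψ.appLE U U' hle) (𝒮.str.app (op U)) (𝒮'.str.app (op U'))
        (CommRingCat.ofHom φ.toRingHom))
    (hirr : (𝒮'.deg U' hU')₊ ≤ ((𝒮.deg U hU)₊).map φ) :
    IsPullback (Proj.map φ hirr) (Proj.toSpecZero (𝒮'.deg U' hU') ≫ Spec.map (𝒮'.strZero U' hU'))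
      (RelProj.emb p chart U hU ≫ p) (hU'.fromSpec ≫ ψ) := by
  have h1 : IsPullback (Proj.map φ hirr)
      (Proj.toSpecZero (𝒮'.deg U' hU') ≫ Spec.map (𝒮'.strZero U' hU'))
      (Proj.toSpecZero (𝒮.deg U hU) ≫ Spec.map (𝒮.strZero U hU)) (Spec.map (ψ.appLE U U' hle)) :=
    ProjBC.isPullback_proj_map φ (ψ.appLE U U' hle).hom (𝒮.strZero U hU).hom (𝒮'.strZero U' hU').hom
      hirr hpo
  have h2 := PullbackCrit.isPullback_comp_mono h1 hU.fromSpec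
  rw [emb_p hP U hU, ← IsAffineOpen.SpecMap_appLE_fromSpec ψ hU hU' hle]
  rwa [Category.assoc] at h2

variable {g : P' ⟶ P}
    (φ : ∀ q : Idx ψ, 𝒮.deg q.1.1 q.2.1 →+*ᵍ 𝒮'.deg q.1.2 q.2.2.1)
    (hpo : ∀ q : Idx ψ, IsPushout (ψ.appLE q.1.1 q.1.2 q.2.2.2) (𝒮.str.app (op q.1.1))
      (𝒮'.str.app (op q.1.2)) (CommRingCat.ofHom (φ q).toRingHom))
    (hirr : ∀ q : Idx ψ, (𝒮'.deg q.1.2 q.2.2.1)₊ ≤ ((𝒮.deg q.1.1 q.2.1)₊).map (φ q))
    (hg : ∀ q : Idx ψ, RelProj.emb p' chart' q.1.2 q.2.2.1 ≫ g =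
      Proj.map (φ q) (hirr q) ≫ RelProj.emb p chart q.1.1 q.2.1)

include hP hP' hpo hg in
theorem comp_w : g ≫ p = p' ≫ ψ := by
  apply hom_ext' (ψ := ψ) p' chart'
  intro q
  have h := (chart_isPullback hP q.2.1 q.2.2.1 q.2.2.2 (φ q) (hpo q) (hirr q)).w
  rw [← Category.assoc, hg q, ← Category.assoc, emb_p hP', Category.assoc, h]
  simp only [Category.assoc]

include hP hP' hpo hg in
theorem isPullback : IsPullback g p' p ψ := by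
  refine PullbackCrit.isPullback_of_charts (J := Idx ψ) (comp_w hP hP' φ hpo hirr hg)
    (fun q => Proj (𝒮.deg q.1.1 q.2.1)) (fun q => Spec Γ(Y', q.1.2))
    (fun q => Proj (𝒮'.deg q.1.2 q.2.2.1))
    (fun q => RelProj.emb p chart q.1.1 q.2.1) (fun q => q.2.2.1.fromSpec)
    (fun q => RelProj.emb p' chart' q.1.2 q.2.2.1)
    (fun q => Proj.map (φ q) (hirr q))
    (fun q => Proj.toSpecZero (𝒮'.deg q.1.2 q.2.2.1) ≫ Spec.map (𝒮'.strZero q.1.2 q.2.2.1))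
    (fun q => (hg q).symm) (fun q => ?_)
    (fun q => chart_isPullback hP q.2.1 q.2.2.1 q.2.2.2 (φ q) (hpo q) (hirr q)) (fun q x h1 h2 => ?_)
    (fun x y h => ?_)
  · rw [Category.assoc]
    exact (emb_p hP' _ _).symm
  · apply exists_of_mem p' chart' q.1.2 q.2.2.1
    rw [IsAffineOpen.range_fromSpec] at h2
    exact h2
  · obtain ⟨q, hq, -, hq'⟩ := exists_idx ψ y ⊤ trivial
    refine ⟨q, exists_of_mem p chart q.1.1 q.2.1 x (by rw [h]; exact hq'), ?_⟩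
    rw [IsAffineOpen.range_fromSpec]
    exact hq

end K37.RelProjBC
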