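import Groth.Prelude.Def_RelSpec2
import Groth.Agent.EGA2.K37.SpecBase

/-!
# The augmentation and the vertex section of an affine cone
-/

set_option autoImplicit false
universe u
open CategoryTheory CategoryTheory.Limits AlgebraicGeometry Opposite TopologicalSpace
open scoped HomogeneousIdeal

namespace K37.ConeBase

variable {Y : Scheme.{u}} (𝒮 : RelProj.QCGrAlg Y)

/-- the component over `U` of an algebra homomorphism to the structure sheaf. -/
def augAt {A : RelSpec.QCAlg Y} (aug : A ⟶ RelSpec.QCAlg.unit Y) (U : Y.Opens) :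
    A.presheaf.obj (op U) ⟶ Γ(Y, U) := aug.hom.app (op U)

variable {𝒮}
variable {A : RelSpec.QCAlg Y} (aug : A ⟶ RelSpec.QCAlg.unit Y)

theorem augAt_res {U V : Y.Opens} (i : V ≤ U) :
    A.presheaf.map (homOfLE i).op ≫ augAt aug V = augAt aug U ≫ Y.presheaf.map (homOfLE i).op :=
  aug.hom.naturality (homOfLE i).op

theorem str_augAt (U : Y.Opens) : A.str.app (op U) ≫ augAt aug U = 𝟙 Γ(Y, U) := by
  have h : A.str.app (op U) ≫ aug.hom.app (op U) = 𝟙 _ := by
    rw [← NatTrans.comp_app, aug.comm]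
    rfl
  exact h

theorem str_augAt_apply (U : Y.Opens) (r : Γ(Y, U)) :
    (augAt aug U).hom ((A.str.app (op U)).hom r) = r :=
  congrArg (fun f => f.hom r) (str_augAt aug U)

theorem augAt_surjective (U : Y.Opens) : Function.Surjective (augAt aug U).hom :=
  fun r => ⟨_, str_augAt_apply aug U r⟩

/-- Existence and uniqueness of the section attached to an algebra map to the structure sheaf. -/
theorem existsUnique_section : ∃! ε : Y ⟶ A.spec, ∀ (U : Y.Opens) (hU : IsAffineOpen U),
      hU.fromSpec ≫ ε = Spec.map (augAt aug U) ≫ A.ι U hU := by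
  apply SpecBase.existsUnique_fromSpec_desc (fun U hU => Spec.map (augAt aug U) ≫ A.ι U hU)
  intro U hU r
  rw [← SpecBase.ι_res_of_eq A hU (hU.basicOpen r) r rfl (Y.basicOpen_le r),
      ← Spec.map_comp_assoc, ← Spec.map_comp_assoc, augAt_res]

theorem section_π (ε : Y ⟶ A.spec) (hε : ∀ (U : Y.Opens) (hU : IsAffineOpen U),
      hU.fromSpec ≫ ε = Spec.map (augAt aug U) ≫ A.ι U hU) : ε ≫ A.π = 𝟙 Y := by
  apply SpecBase.fromSpec_hom_ext
  intro U hU
  rw [reassoc_of% (hε U hU), A.ι_π U hU, ← Spec.map_comp_assoc, str_augAt]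
  simp

theorem isClosedImmersion_section (ε : Y ⟶ A.spec) (hε : ε ≫ A.π = 𝟙 Y) : IsClosedImmersion ε := by
  have : IsClosedImmersion (ε ≫ A.π) := by
    rw [hε]
    infer_instance
  exact IsClosedImmersion.of_comp ε A.π

/-- The augmentation kernel is the irrelevant ideal. -/
theorem ker_augAt (h0 : RelCone.StrZeroBij 𝒮) {aug : 𝒮.toQCAlg ⟶ RelSpec.QCAlg.unit Y}
    (haug : RelCone.IsAugmentation 𝒮 aug) (U : Y.Opens) (hU : IsAffineOpen U) :
    RingHom.ker (augAt aug U).hom = (𝒮.deg U hU)₊.toIdeal := by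
  classical
  have hpos : ∀ (d : ℕ) (_ : d ≠ 0) (x : 𝒮.presheaf.obj (op U)), x ∈ 𝒮.deg U hU d →
      (augAt aug U).hom x = 0 := by
    intro d hd x hx
    obtain ⟨k, rfl⟩ := Nat.exists_eq_succ_of_ne_zero hd
    exact haug U hU k x hx
  have key : ∀ x : 𝒮.presheaf.obj (op U), (augAt aug U).hom x =
      (augAt aug U).hom (DirectSum.decompose (𝒮.deg U hU) x 0 : 𝒮.presheaf.obj (op U)) := by
    intro x
    conv_lhs => rw [← DirectSum.sum_support_decompose (𝒮.deg U hU) x]
    rw [map_sum, Finset.sum_eq_single 0]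
    · intro b _ hb
      exact hpos b hb _ (SetLike.coe_mem _)
    · intro h
      rw [DFinsupp.notMem_support_iff.mp h]
      simp
  ext x
  rw [RingHom.mem_ker, key]
  constructor
  · intro h
    change x ∈ (𝒮.deg U hU)₊
    rw [HomogeneousIdeal.mem_irrelevant_iff]
    obtain ⟨r, hr⟩ := (h0 U hU).2 (DirectSum.decompose (𝒮.deg U hU) x 0)
    have hr' : (𝒮.str.app (op U)).hom r = (DirectSum.decompose (𝒮.deg U hU) x 0 : 𝒮.presheaf.obj (op U)) :=
      congrArg Subtype.val hr
    rw [← hr'] at h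
    have h2 := str_augAt_apply aug U r
    have h3 : r = 0 := h2.symm.trans h
    rw [GradedRing.proj_apply, ← hr', h3, map_zero]
  · intro h
    have h1 : (DirectSum.decompose (𝒮.deg U hU) x 0 : 𝒮.presheaf.obj (op U)) = 0 := h
    rw [h1, map_zero]

/-- A point of a chart lies in the image of the section iff its ideal contains the kernel. -/
theorem ι_mem_range_iff {A : RelSpec.QCAlg Y} {aug : A ⟶ RelSpec.QCAlg.unit Y} {ε : Y ⟶ A.spec}
    (hε : ∀ (U : Y.Opens) (hU : IsAffineOpen U), hU.fromSpec ≫ ε = Spec.map (augAt aug U) ≫ A.ι U hU)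
    (U : Y.Opens) (hU : IsAffineOpen U) (x : Spec (A.presheaf.obj (op U))) :
    A.ι U hU x ∈ Set.range ε ↔ RingHom.ker (augAt aug U).hom ≤ x.asIdeal := by
  have hr : x ∈ Set.range (Spec.map (augAt aug U)) ↔ RingHom.ker (augAt aug U).hom ≤ x.asIdeal := by
    change x ∈ Set.range (PrimeSpectrum.comap (augAt aug U).hom) ↔ _
    rw [range_comap_of_surjective _ _ (augAt_surjective aug U)]
    exact Iff.rfl
  rw [← hr]
  constructor
  · rintro ⟨y, hy⟩
    have hyU : y ∈ U := by
      have h1 : A.π (A.ι U hU x) ∈ U := by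
        have : A.ι U hU x ∈ A.π ⁻¹ᵁ U := by rw [A.π_preimage U hU]; exact ⟨x, rfl⟩
        exact this
      rw [← hy] at h1
      have h2 : A.π (ε y) = y := by
        rw [← Scheme.Hom.comp_apply, section_π aug ε hε]
        rfl
      rwa [h2] at h1
    have hyU' : y ∈ Set.range hU.fromSpec := by rw [hU.range_fromSpec]; exact hyU
    obtain ⟨q, rfl⟩ := hyU'
    refine ⟨q, (A.ι U hU).isOpenEmbedding.injective ?_⟩
    rw [← hy, ← Scheme.Hom.comp_apply, ← Scheme.Hom.comp_apply, hε U hU]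
  · rintro ⟨q, rfl⟩
    refine ⟨hU.fromSpec q, ?_⟩
    rw [← Scheme.Hom.comp_apply, ← Scheme.Hom.comp_apply, hε U hU]

end K37.ConeBase
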