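import Groth.Agent.Ega2.H267.AwayBC
import Groth.Agent.EGA2.K37.ProjRing
import Mathlib.AlgebraicGeometry.Pullbacks

/-!
# `Proj` commutes with base change, gradings by arbitrary families of additive subgroups
-/

set_option autoImplicit false
universe u
open CategoryTheory CategoryTheory.Limits AlgebraicGeometry HomogeneousLocalization
open scoped HomogeneousIdeal

namespace K37.ProjBC

section sub

variable {A σ R : Type u} [CommRing A] [SetLike σ A] [AddSubgroupClass σ A] (𝒜 : ℕ → σ)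
  [GradedRing 𝒜] [CommRing R] [Algebra R A] (c : ∀ r : R, algebraMap R A r ∈ 𝒜 0)

/-- the graded pieces as submodules. -/
def sub (i : ℕ) : Submodule R A where
  carrier := 𝒜 i
  add_mem' := fun h h' => add_mem h h'
  zero_mem' := zero_mem _
  smul_mem' r x hx := by
    have := SetLike.mul_mem_graded (c r) hx
    rwa [zero_add, ← Algebra.smul_def] at this

theorem mem_sub {i : ℕ} {x : A} : x ∈ sub 𝒜 c i ↔ x ∈ 𝒜 i := Iff.rfl

/-- the identity, from the old pieces to the new ones. -/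
def toSub (i : ℕ) : 𝒜 i →+ sub 𝒜 c i where
  toFun x := ⟨x.1, x.2⟩
  map_zero' := rfl
  map_add' _ _ := rfl

/-- the identity, from the new pieces to the old ones. -/
def ofSub (i : ℕ) : sub 𝒜 c i →+ 𝒜 i where
  toFun x := ⟨x.1, x.2⟩
  map_zero' := rfl
  map_add' _ _ := rfl

/-- the decomposition map. -/
noncomputable def dec : A →+ DirectSum ℕ fun i => sub 𝒜 c i :=
  (DFinsupp.mapRange.addMonoidHom (toSub 𝒜 c)).comp (DirectSum.decomposeAddEquiv 𝒜).toAddMonoidHom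

theorem dec_apply (a : A) : dec 𝒜 c a = DFinsupp.mapRange.addMonoidHom (toSub 𝒜 c)
    (DirectSum.decompose 𝒜 a) := rfl

theorem dec_of {i : ℕ} (a : A) (ha : a ∈ 𝒜 i) :
    dec 𝒜 c a = DirectSum.of (fun i => sub 𝒜 c i) i ⟨a, ha⟩ := by
  rw [dec_apply, DirectSum.decompose_of_mem 𝒜 ha]
  change DFinsupp.mapRange.addMonoidHom (toSub 𝒜 c) (DFinsupp.single i _) = _
  rw [DFinsupp.mapRange.addMonoidHom_apply, DFinsupp.mapRange_single]
  rfl

theorem coe_dec (a : A) : DirectSum.coeAddMonoidHom (sub 𝒜 c) (dec 𝒜 c a) = a := by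
  obtain ⟨z, rfl⟩ := (DirectSum.decompose 𝒜).symm.surjective a
  induction z using DirectSum.induction_on with
  | zero => simp
  | of i x =>
    rw [DirectSum.decompose_symm_of, dec_of 𝒜 c x.1 x.2, DirectSum.coeAddMonoidHom_of]
  | add x y hx hy => rw [DirectSum.decompose_symm_add, map_add, map_add, hx, hy]

theorem dec_coe (z : DirectSum ℕ fun i => sub 𝒜 c i) :
    dec 𝒜 c (DirectSum.coeAddMonoidHom (sub 𝒜 c) z) = z := by
  induction z using DirectSum.induction_on with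
  | zero => rw [map_zero, map_zero]
  | of i x => rw [DirectSum.coeAddMonoidHom_of, dec_of 𝒜 c x.1 x.2]
  | add x y hx hy => rw [map_add, map_add, hx, hy]

/-- The grading by submodules. -/
@[instance_reducible] noncomputable def gradedAlgebra : GradedAlgebra (sub 𝒜 c) where
  one_mem := SetLike.GradedOne.one_mem (A := 𝒜)
  mul_mem _ _ _ _ ha hb := SetLike.mul_mem_graded (A := 𝒜) ha hb
  decompose' := dec 𝒜 c
  left_inv := coe_dec 𝒜 c
  right_inv := dec_coe 𝒜 c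

end sub

section away

variable {A σ : Type u} [CommRing A] [SetLike σ A] [AddSubgroupClass σ A] {𝒜 : ℕ → σ} [GradedRing 𝒜]

lemma mk_add_eq {s : A} {n : ℕ} {i : ℕ} (hs : s ∈ 𝒜 i) (x y : A) (hx : x ∈ 𝒜 (n • i))
    (hy : y ∈ 𝒜 (n • i)) :
    Away.mk 𝒜 hs n (x + y) (add_mem hx hy) = Away.mk 𝒜 hs n x hx + Away.mk 𝒜 hs n y hy := by
  apply HomogeneousLocalization.val_injective
  rw [val_add, Away.val_mk, Away.val_mk, Away.val_mk, Localization.add_mk_self]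

lemma mk_mul_zero {s : A} {n : ℕ} {i : ℕ} (hs : s ∈ 𝒜 i) (x : A) (hx : x ∈ 𝒜 (n • i)) (r : 𝒜 0)
    (hrx : r.1 * x ∈ 𝒜 (n • i)) :
    Away.mk 𝒜 hs n (r.1 * x) hrx = fromZeroRingHom 𝒜 _ r * Away.mk 𝒜 hs n x hx := by
  apply HomogeneousLocalization.val_injective
  rw [val_mul, Away.val_mk, Away.val_mk]
  change _ = Localization.mk r.1 1 * _
  rw [Localization.mk_mul, one_mul]

lemma mk_pow_mul {s : A} {i : ℕ} (hs : s ∈ 𝒜 i) (k n : ℕ) (x : A) (hx : x ∈ 𝒜 (n • i))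
    (hx' : s ^ k * x ∈ 𝒜 ((k + n) • i)) :
    Away.mk 𝒜 hs (k + n) (s ^ k * x) hx' = Away.mk 𝒜 hs n x hx := by
  apply HomogeneousLocalization.val_injective
  rw [Away.val_mk, Away.val_mk, Localization.mk_eq_mk_iff, Localization.r_iff_exists]
  refine ⟨1, ?_⟩
  change 1 * (s ^ n * (s ^ k * x)) = 1 * (s ^ (k + n) * x)
  rw [pow_add]; ring

lemma mk_eq_zero {s : A} {i : ℕ} (hs : s ∈ 𝒜 i) (n : ℕ) (x : A) (hx : x ∈ 𝒜 (n • i))
    (h : Away.mk 𝒜 hs n x hx = 0) : ∃ k, s ^ k * x = 0 := by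
  have h1 := congrArg HomogeneousLocalization.val h
  rw [Away.val_mk, val_zero, ← Localization.mk_zero 1, Localization.mk_eq_mk_iff,
    Localization.r_iff_exists] at h1
  obtain ⟨⟨_, k, rfl⟩, hk⟩ := h1
  exact ⟨k, by simpa using hk⟩

end away

section push

variable {R' B R A σ τ : Type u} [CommRing R'] [CommRing B] [SetLike τ B] [AddSubgroupClass τ B]
  {ℬ : ℕ → τ} [GradedRing ℬ] [CommRing R] [CommRing A] [SetLike σ A] [AddSubgroupClass σ A]
  {𝒜 : ℕ → σ} [GradedRing 𝒜] (φ : ℬ →+*ᵍ 𝒜) (ρ : R' →+* R) (b₀ : R' →+* ℬ 0) (a₀ : R →+* 𝒜 0)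

/-- **Base change of homogeneous localizations**. -/
theorem isPushout_away
    (H : IsPushout (CommRingCat.ofHom ρ) (CommRingCat.ofHom ((SetLike.GradeZero.subring ℬ).subtype.comp b₀))
      (CommRingCat.ofHom ((SetLike.GradeZero.subring 𝒜).subtype.comp a₀)) (CommRingCat.ofHom φ.toRingHom))
    {i : ℕ} (s : B) (hs : s ∈ ℬ i) :
    IsPushout (CommRingCat.ofHom ρ) (CommRingCat.ofHom ((fromZeroRingHom ℬ _).comp b₀))
      (CommRingCat.ofHom ((fromZeroRingHom 𝒜 _).comp a₀)) (CommRingCat.ofHom (Away.map φ s)) := by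
  let _ : Algebra R' R := ρ.toAlgebra
  let _ : Algebra R' B := ((SetLike.GradeZero.subring ℬ).subtype.comp b₀).toAlgebra
  let _ : Algebra R A := ((SetLike.GradeZero.subring 𝒜).subtype.comp a₀).toAlgebra
  let _ : Algebra B A := φ.toRingHom.toAlgebra
  let _ : Algebra R' A := (((SetLike.GradeZero.subring 𝒜).subtype.comp a₀).comp ρ).toAlgebra
  have hw : ∀ r : R', φ (b₀ r : B) = (a₀ (ρ r) : A) := fun r =>
    (congrArg (fun q => q.hom r) H.w).symm
  have : IsScalarTower R' R A := .of_algebraMap_eq' rfl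
  have : IsScalarTower R' B A := .of_algebraMap_eq' (RingHom.ext fun r => (hw r).symm)
  have cB : ∀ r : R', algebraMap R' B r ∈ ℬ 0 := fun r => (b₀ r).2
  have cA : ∀ r : R, algebraMap R A r ∈ 𝒜 0 := fun r => (a₀ r).2
  let _ : GradedAlgebra (sub ℬ cB) := gradedAlgebra ℬ cB
  let _ : GradedAlgebra (sub 𝒜 cA) := gradedAlgebra 𝒜 cA
  have hP : Algebra.IsPushout R' R B A := CommRingCat.isPushout_iff_isPushout.mp H
  let φ' : sub ℬ cB →+*ᵍ sub 𝒜 cA := ⟨φ.toRingHom, fun {_ _} h => φ.map_mem h⟩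
  refine Groth.Agent.Ega2.H267.AwayBC.isPushout_aux φ' (fun _ => rfl) s (i := i) hs _ _ _ (fun r => ?_)
    (fun n b => Away.mk ℬ hs n b.1 b.2) (fun n x y => mk_add_eq hs x.1 y.1 x.2 y.2)
    (fun n r x => ?_)
    (fun n b => Away.mk 𝒜 (φ.2 hs) n b.1 b.2) (fun n x y => mk_add_eq (φ.2 hs) x.1 y.1 x.2 y.2)
    (fun n r x => ?_) (fun k n x => mk_pow_mul hs k n x.1 x.2 _)
    (fun n x => ?_) (fun x => ?_) (fun x => ?_) (fun n y hy => ?_)
  · change Away.map φ s (fromZeroRingHom ℬ _ (b₀ r)) = fromZeroRingHom 𝒜 _ (a₀ (ρ r))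
    rw [← RingHom.comp_apply, ProjRing.awayMap_fromZero, RingHom.comp_apply]
    congr 1
    exact Subtype.ext (hw r)
  · exact mk_mul_zero hs x.1 x.2 (b₀ r) _
  · exact mk_mul_zero (φ.2 hs) x.1 x.2 (a₀ r) _
  · change Away.map φ s (Away.mk ℬ hs n x.1 x.2) = Away.mk 𝒜 (φ.2 hs) n (φ x.1) _
    rw [Away.map_mk]
  · obtain ⟨n, a, ha, h⟩ := Away.mk_surjective ℬ hs x
    exact ⟨n, ⟨a, ha⟩, h⟩
  · obtain ⟨n, a, ha, h⟩ := Away.mk_surjective 𝒜 (φ.2 hs) x
    exact ⟨n, ⟨a, ha⟩, h⟩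
  · obtain ⟨k, hk⟩ := mk_eq_zero (φ.2 hs) n y.1 y.2 hy
    exact ⟨k, Subtype.ext hk⟩

theorem isPullback_proj_map (hφ : 𝒜₊ ≤ (ℬ₊).map φ)
    (H : IsPushout (CommRingCat.ofHom ρ) (CommRingCat.ofHom ((SetLike.GradeZero.subring ℬ).subtype.comp b₀))
      (CommRingCat.ofHom ((SetLike.GradeZero.subring 𝒜).subtype.comp a₀)) (CommRingCat.ofHom φ.toRingHom)) :
    IsPullback (Proj.map φ hφ) (Proj.toSpecZero 𝒜 ≫ Spec.map (CommRingCat.ofHom a₀))
      (Proj.toSpecZero ℬ ≫ Spec.map (CommRingCat.ofHom b₀)) (Spec.map (CommRingCat.ofHom ρ)) := by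
  refine Scheme.isPullback_of_openCover _ _ _ _ (Proj.affineOpenCover ℬ).openCover fun j => ?_
  have hi : 0 < (j.1.1 : ℕ) := j.1.2
  have hs : (j.2.1 : B) ∈ ℬ (j.1.1 : ℕ) := j.2.2
  have h1 := ProjRing.isPullback_chart (f := φ) hφ hi j.2.1 hs
  have h2 := isPullback_SpecMap_of_isPushout _ _ _ _ (isPushout_away φ ρ b₀ a₀ H j.2.1 hs)
  have hA : Proj.awayι 𝒜 (φ j.2.1) (φ.2 hs) hi ≫ Proj.toSpecZero 𝒜 ≫ Spec.map (CommRingCat.ofHom a₀) =
      Spec.map (CommRingCat.ofHom ((fromZeroRingHom 𝒜 _).comp a₀)) := by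
    rw [Proj.awayι_toSpecZero_assoc, ← Spec.map_comp]
    rfl
  have hB : Proj.awayι ℬ (j.2.1 : B) hs hi ≫ Proj.toSpecZero ℬ ≫ Spec.map (CommRingCat.ofHom b₀) =
      Spec.map (CommRingCat.ofHom ((fromZeroRingHom ℬ _).comp b₀)) := by
    rw [Proj.awayι_toSpecZero_assoc, ← Spec.map_comp]
    rfl
  let e := h1.flip.isoPullback
  refine IsPullback.of_iso h2.flip e (Iso.refl _) (Iso.refl _) (Iso.refl _) ?_ ?_ ?_ ?_
  · change _ ≫ _ = e.hom ≫ pullback.snd _ _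
    simp only [e, IsPullback.isoPullback_hom_snd]
    exact Category.comp_id _
  · change _ ≫ _ = e.hom ≫ pullback.fst _ _ ≫ _
    rw [Iso.refl_hom, Category.comp_id]
    simp only [e, IsPullback.isoPullback_hom_fst_assoc]
    exact hA.symm
  · change _ ≫ 𝟙 _ = 𝟙 _ ≫ Proj.awayι ℬ _ _ _ ≫ _
    rw [Category.comp_id, Category.id_comp]
    exact hB.symm
  · simp

end push

end K37.ProjBC
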