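import Groth.Agent.EGA2.K40.GrMul
import Groth.Agent.Fdesc.LocGen

/-!
# The comap of twisting sheaves on sections

* `locMap_locMap_eq`: the two ways around a commutative square of graded rings;
* `comapΓ`: `GrTwist.comapApp` on the sections of the modules `twist`; `res_comapΓ`, `comapΓ_smul`, `comapΓ_powFrac`.
-/

set_option autoImplicit false
universe u

open CategoryTheory CategoryTheory.Limits AlgebraicGeometry TopologicalSpace Opposite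
open scoped HomogeneousIdeal

noncomputable section

namespace K37.TwistComp

open K40.GrMul GrTwist
open Groth.Agent.Fdesc.LocGen hiding sec res_sec

variable {A B₁ B₂ C σ τ₁ τ₂ ρ : Type u} [CommRing A] [SetLike σ A] [AddSubgroupClass σ A] {𝒜 : ℕ → σ} [GradedRing 𝒜]
  [CommRing B₁] [SetLike τ₁ B₁] [AddSubgroupClass τ₁ B₁] {ℬ₁ : ℕ → τ₁} [GradedRing ℬ₁]
  [CommRing B₂] [SetLike τ₂ B₂] [AddSubgroupClass τ₂ B₂] {ℬ₂ : ℕ → τ₂} [GradedRing ℬ₂]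
  [CommRing C] [SetLike ρ C] [AddSubgroupClass ρ C] {𝒞 : ℕ → ρ} [GradedRing 𝒞]

theorem comap_comap_eq (ψ₁ : 𝒜 →+*ᵍ ℬ₁) (h₁ : ℬ₁₊ ≤ (𝒜₊).map ψ₁) (χ₁ : ℬ₁ →+*ᵍ 𝒞) (k₁ : 𝒞₊ ≤ (ℬ₁₊).map χ₁)
    (ψ₂ : 𝒜 →+*ᵍ ℬ₂) (h₂ : ℬ₂₊ ≤ (𝒜₊).map ψ₂) (χ₂ : ℬ₂ →+*ᵍ 𝒞) (k₂ : 𝒞₊ ≤ (ℬ₂₊).map χ₂)
    (H : ∀ a, χ₁ (ψ₁ a) = χ₂ (ψ₂ a)) (y : ProjectiveSpectrum 𝒞) :
    ProjectiveSpectrum.comap ψ₁ h₁ (ProjectiveSpectrum.comap χ₁ k₁ y) =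
      ProjectiveSpectrum.comap ψ₂ h₂ (ProjectiveSpectrum.comap χ₂ k₂ y) := by
  apply ProjectiveSpectrum.ext
  apply HomogeneousIdeal.toIdeal_injective
  ext a
  change χ₁ (ψ₁ a) ∈ y.asHomogeneousIdeal ↔ χ₂ (ψ₂ a) ∈ y.asHomogeneousIdeal
  rw [H]

theorem locMap_locMap_mk (ψ₁ : 𝒜 →+*ᵍ ℬ₁) (h₁ : ℬ₁₊ ≤ (𝒜₊).map ψ₁) (χ₁ : ℬ₁ →+*ᵍ 𝒞) (k₁ : 𝒞₊ ≤ (ℬ₁₊).map χ₁)
    (y : ProjectiveSpectrum 𝒞) (a : A)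
    (b : (ProjectiveSpectrum.comap ψ₁ h₁ (ProjectiveSpectrum.comap χ₁ k₁ y)).asHomogeneousIdeal.toIdeal.primeCompl)
    (c : C) (hc : χ₁ (ψ₁ b.1) = c) (hcy : c ∈ y.asHomogeneousIdeal.toIdeal.primeCompl) :
    locMap χ₁ k₁ y (locMap ψ₁ h₁ (ProjectiveSpectrum.comap χ₁ k₁ y) (Localization.mk a b)) =
      Localization.mk (χ₁ (ψ₁ a)) ⟨c, hcy⟩ := by
  subst hc
  rw [locMap_mk ψ₁ h₁, locMap_mk χ₁ k₁]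

theorem locMap_locMap_eq (ψ₁ : 𝒜 →+*ᵍ ℬ₁) (h₁ : ℬ₁₊ ≤ (𝒜₊).map ψ₁) (χ₁ : ℬ₁ →+*ᵍ 𝒞) (k₁ : 𝒞₊ ≤ (ℬ₁₊).map χ₁)
    (ψ₂ : 𝒜 →+*ᵍ ℬ₂) (h₂ : ℬ₂₊ ≤ (𝒜₊).map ψ₂) (χ₂ : ℬ₂ →+*ᵍ 𝒞) (k₂ : 𝒞₊ ≤ (ℬ₂₊).map χ₂)
    (H : ∀ a, χ₁ (ψ₁ a) = χ₂ (ψ₂ a)) {n : ℤ} (y : ProjectiveSpectrum 𝒞)
    (V : Opens (ProjectiveSpectrum.top 𝒜)) (s : sectN (𝒜 := 𝒜) n (op V))
    (m₁ : ProjectiveSpectrum.comap ψ₁ h₁ (ProjectiveSpectrum.comap χ₁ k₁ y) ∈ V)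
    (m₂ : ProjectiveSpectrum.comap ψ₂ h₂ (ProjectiveSpectrum.comap χ₂ k₂ y) ∈ V) :
    locMap χ₁ k₁ y (locMap ψ₁ h₁ (ProjectiveSpectrum.comap χ₁ k₁ y) (s.1 ⟨_, m₁⟩).1) =
      locMap χ₂ k₂ y (locMap ψ₂ h₂ (ProjectiveSpectrum.comap χ₂ k₂ y) (s.1 ⟨_, m₂⟩).1) := by
  obtain ⟨W, mW, i, _, _, a, b, nin, _, w⟩ := s.2 ⟨_, m₁⟩
  have e := comap_comap_eq ψ₁ h₁ χ₁ k₁ ψ₂ h₂ χ₂ k₂ H y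
  have mW₂ : ProjectiveSpectrum.comap ψ₂ h₂ (ProjectiveSpectrum.comap χ₂ k₂ y) ∈ W := by
    rw [← e]; exact mW
  have w₁ : (s.1 ⟨_, m₁⟩).1 = Localization.mk (a : A) ⟨b, nin ⟨_, mW⟩⟩ := w ⟨_, mW⟩
  have w₂ : (s.1 ⟨_, m₂⟩).1 = Localization.mk (a : A) ⟨b, nin ⟨_, mW₂⟩⟩ := w ⟨_, mW₂⟩
  have hb : χ₁ (ψ₁ b) ∈ y.asHomogeneousIdeal.toIdeal.primeCompl := nin ⟨_, mW⟩
  rw [w₁, w₂, locMap_locMap_mk ψ₁ h₁ χ₁ k₁ y a ⟨b, nin ⟨_, mW⟩⟩ _ rfl hb,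
    locMap_locMap_mk ψ₂ h₂ χ₂ k₂ y a ⟨b, nin ⟨_, mW₂⟩⟩ _ (H _).symm hb, H]
/-- The comap of twisting sheaves on sections of the modules `twist`. -/
def comapΓ (ψ : 𝒜 →+*ᵍ ℬ₁) (hψ : ℬ₁₊ ≤ (𝒜₊).map ψ) (n : ℤ) (U : (Proj 𝒜).Opens) (V : (Proj ℬ₁).Opens)
    (hUV : V ≤ Proj.map ψ hψ ⁻¹ᵁ U) : Γ(twist 𝒜 n, U) →+ Γ(twist ℬ₁ n, V) :=
  comapApp ψ hψ n U V hUV

theorem val_comapΓ (ψ : 𝒜 →+*ᵍ ℬ₁) (hψ : ℬ₁₊ ≤ (𝒜₊).map ψ) (n : ℤ) (U : (Proj 𝒜).Opens) (V : (Proj ℬ₁).Opens)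
    (hUV : V ≤ Proj.map ψ hψ ⁻¹ᵁ U) (s : Γ(twist 𝒜 n, U)) (y : V) :
    GrTwist.val (comapΓ ψ hψ n U V hUV s) y = locMap ψ hψ y.1 (GrTwist.val s ⟨ProjectiveSpectrum.comap ψ hψ y.1, hUV y.2⟩) :=
  rfl

theorem res_comapΓ (ψ : 𝒜 →+*ᵍ ℬ₁) (hψ : ℬ₁₊ ≤ (𝒜₊).map ψ) (n : ℤ) {U U' : (Proj 𝒜).Opens} {V V' : (Proj ℬ₁).Opens}
    (hUV : V ≤ Proj.map ψ hψ ⁻¹ᵁ U) (hUV' : V' ≤ Proj.map ψ hψ ⁻¹ᵁ U') (hU : U' ≤ U) (hV : V' ≤ V)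
    (s : Γ(twist 𝒜 n, U)) : res (twist ℬ₁ n) hV (comapΓ ψ hψ n U V hUV s) =
      comapΓ ψ hψ n U' V' hUV' (res (twist 𝒜 n) hU s) := rfl

theorem comapΓ_smul (ψ : 𝒜 →+*ᵍ ℬ₁) (hψ : ℬ₁₊ ≤ (𝒜₊).map ψ) (n : ℤ) (U : (Proj 𝒜).Opens) (V : (Proj ℬ₁).Opens)
    (hUV : V ≤ Proj.map ψ hψ ⁻¹ᵁ U) (c : Γ(Proj 𝒜, U)) (s : Γ(twist 𝒜 n, U)) :
    comapΓ ψ hψ n U V hUV (c • s) = (ores hUV ((Proj.map ψ hψ).app U c)) • comapΓ ψ hψ n U V hUV s :=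
  comapApp_smul ψ hψ n U V hUV c s

theorem comapΓ_powFrac (ψ : 𝒜 →+*ᵍ ℬ₁) (hψ : ℬ₁₊ ≤ (𝒜₊).map ψ) (n : ℤ) {d : ℕ} (f : 𝒜 d) (l : ℤ)
    (hn : l * d = n) (U : (Proj 𝒜).Opens) (V : (Proj ℬ₁).Opens) (hUV : V ≤ Proj.map ψ hψ ⁻¹ᵁ U)
    (hU : ∀ x ∈ U, f.1 ∉ (x : ProjectiveSpectrum 𝒜).asHomogeneousIdeal)
    (hV : ∀ x ∈ V, ψ f.1 ∉ (x : ProjectiveSpectrum ℬ₁).asHomogeneousIdeal) :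
    comapΓ ψ hψ n U V hUV (powFrac f l n hn U hU) = powFrac ⟨ψ f.1, ψ.map_mem f.2⟩ l n hn V hV := by
  refine Subtype.ext (funext fun y => Subtype.ext ?_)
  refine (locMap_mk ψ hψ y.1 _ _).trans ?_
  change Localization.mk _ _ = Localization.mk _ _
  congr 1
  · exact map_pow ψ _ _
  · exact Subtype.ext (map_pow ψ _ _)

end K37.TwistComp
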