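import Groth.Agent.S3546
import Groth.Agent.EGA2.K35.Regrade
import Groth.Agent.EGA2.K37.TwistComp
import Groth.Agent.EGA2.K34.OpenMap
import Groth.Agent.PerfA.QCohSerre

/-!
# The twisting sheaves of a graded ring (graded by additive subgroups) are quasi-coherent

* `comapΓ_bijective`: inverse graded isomorphisms give bijections on sections of twisting sheaves;
* `isQCoh_twist`.
-/

set_option autoImplicit false
set_option maxHeartbeats 400000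
universe u

open CategoryTheory CategoryTheory.Limits AlgebraicGeometry TopologicalSpace Opposite
open scoped HomogeneousIdeal

noncomputable section

namespace K37.TwistQCoh

open GrTwist K37.TwistComp

section inv

variable {A B σ τ : Type u} [CommRing A] [SetLike σ A] [AddSubgroupClass σ A] {𝒜 : ℕ → σ} [GradedRing 𝒜]
  [CommRing B] [SetLike τ B] [AddSubgroupClass τ B] {ℬ : ℕ → τ} [GradedRing ℬ]

theorem comap_comap_id (ψ : 𝒜 →+*ᵍ ℬ) (hψ : ℬ₊ ≤ (𝒜₊).map ψ) (χ : ℬ →+*ᵍ 𝒜) (hχ : 𝒜₊ ≤ (ℬ₊).map χ)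
    (H : ∀ a, χ (ψ a) = a) (y : ProjectiveSpectrum 𝒜) :
    ProjectiveSpectrum.comap ψ hψ (ProjectiveSpectrum.comap χ hχ y) = y := by
  apply ProjectiveSpectrum.ext
  apply HomogeneousIdeal.toIdeal_injective
  ext a
  change χ (ψ a) ∈ y.asHomogeneousIdeal ↔ a ∈ y.asHomogeneousIdeal
  rw [H]

theorem locMap_locMap_id (ψ : 𝒜 →+*ᵍ ℬ) (hψ : ℬ₊ ≤ (𝒜₊).map ψ) (χ : ℬ →+*ᵍ 𝒜) (hχ : 𝒜₊ ≤ (ℬ₊).map χ)
    (H : ∀ a, χ (ψ a) = a) {n : ℤ} (y : ProjectiveSpectrum 𝒜)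
    (V : Opens (ProjectiveSpectrum.top 𝒜)) (s : sectN (𝒜 := 𝒜) n (op V))
    (m₁ : ProjectiveSpectrum.comap ψ hψ (ProjectiveSpectrum.comap χ hχ y) ∈ V) (m : y ∈ V) :
    locMap χ hχ y (locMap ψ hψ (ProjectiveSpectrum.comap χ hχ y) (s.1 ⟨_, m₁⟩).1) = (s.1 ⟨y, m⟩).1 := by
  obtain ⟨W, mW, i, _, _, a, b, nin, _, w⟩ := s.2 ⟨_, m⟩
  have mW₁ : ProjectiveSpectrum.comap ψ hψ (ProjectiveSpectrum.comap χ hχ y) ∈ W := by
    rw [comap_comap_id ψ hψ χ hχ H]; exact mW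
  have w₁ : (s.1 ⟨_, m₁⟩).1 = Localization.mk (a : A) ⟨b, nin ⟨_, mW₁⟩⟩ := w ⟨_, mW₁⟩
  have w₂ : (s.1 ⟨_, m⟩).1 = Localization.mk (a : A) ⟨b, nin ⟨_, mW⟩⟩ := w ⟨_, mW⟩
  rw [w₁, w₂, locMap_locMap_mk ψ hψ χ hχ y a ⟨b, nin ⟨_, mW₁⟩⟩ _ (H _) (nin ⟨_, mW⟩), H]

variable (ψ : 𝒜 →+*ᵍ ℬ) (hψ : ℬ₊ ≤ (𝒜₊).map ψ) (χ : ℬ →+*ᵍ 𝒜) (hχ : 𝒜₊ ≤ (ℬ₊).map χ)
  (H : ∀ a, χ (ψ a) = a) (H' : ∀ b, ψ (χ b) = b) (n : ℤ)

include hχ H H' in
theorem comapApp_bijective (U : (Proj 𝒜).Opens) :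
    Function.Bijective (comapApp ψ hψ n U (Proj.map ψ hψ ⁻¹ᵁ U) Set.Subset.rfl) := by
  constructor
  · intro s s' h
    refine Subtype.ext (funext fun x => Subtype.ext ?_)
    have hx : ProjectiveSpectrum.comap ψ hψ (ProjectiveSpectrum.comap χ hχ x.1) ∈ U := by
      rw [comap_comap_id ψ hψ χ hχ H]; exact x.2
    have h1 := congrArg (fun t : sectN (𝒜 := ℬ) n (op (Proj.map ψ hψ ⁻¹ᵁ U)) =>
      (t.1 ⟨ProjectiveSpectrum.comap χ hχ x.1, hx⟩).1) h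
    have h2 := congrArg (locMap χ hχ x.1) h1
    have e1 := locMap_locMap_id ψ hψ χ hχ H x.1 U s hx x.2
    have e2 := locMap_locMap_id ψ hψ χ hχ H x.1 U s' hx x.2
    exact e1.symm.trans (h2.trans e2)
  · intro t
    have hU : U.1 ⊆ ProjectiveSpectrum.comap χ hχ ⁻¹' (Proj.map ψ hψ ⁻¹ᵁ U).1 := by
      intro x hx
      change ProjectiveSpectrum.comap ψ hψ (ProjectiveSpectrum.comap χ hχ x) ∈ U
      rw [comap_comap_id ψ hψ χ hχ H]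
      exact hx
    refine ⟨comapApp χ hχ n (Proj.map ψ hψ ⁻¹ᵁ U) U hU t, ?_⟩
    refine Subtype.ext (funext fun y => Subtype.ext ?_)
    exact locMap_locMap_id χ hχ ψ hψ H' y.1 (Proj.map ψ hψ ⁻¹ᵁ U) t (hU y.2) y.2

end inv

section qcoh

variable {A σ : Type u} [CommRing A] [SetLike σ A] [AddSubgroupClass σ A] (𝒜 : ℕ → σ) [GradedRing 𝒜]

/-- `O(n)` is quasi-coherent on `Proj 𝒜`, for any family of additive subgroups. -/
theorem isQCoh_twist (n : ℤ) : Coh.IsQCoh (GrTwist.twist 𝒜 n) := by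
  let _ : Algebra (𝒜 0) A := (SetLike.GradeZero.subring 𝒜).subtype.toAlgebra
  have h0 : ∀ r : 𝒜 0, algebraMap (𝒜 0) A r ∈ 𝒜 0 := fun r => r.2
  have : IsIso (Proj.map (K35.Regrade.toSub 𝒜 h0) (K35.Regrade.irr_toSub 𝒜 h0)) :=
    (K35.Regrade.projIso 𝒜 h0).isIso_hom
  have h1 : Coh.IsQCoh (GrTwist.twist (K35.Regrade.subm 𝒜 h0) n) :=
    Groth.Agent.S3546.result (K35.Regrade.subm 𝒜 h0) n
  have e : (GrTwist.twist 𝒜 n).restrict (Proj.map (K35.Regrade.toSub 𝒜 h0) (K35.Regrade.irr_toSub 𝒜 h0)) ≅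
      GrTwist.twist (K35.Regrade.subm 𝒜 h0) n :=
    K34.OpenMap.restrictIso _ (GrTwist.comap (K35.Regrade.toSub 𝒜 h0) (K35.Regrade.irr_toSub 𝒜 h0) n)
      fun W _ => comapApp_bijective _ _ (K35.Regrade.ofSub 𝒜 h0) (K35.Regrade.irr_ofSub 𝒜 h0)
        (fun _ => rfl) (fun _ => rfl) n W
  refine Groth.Agent.PerfA.QCohSerre.isQCoh_of_restrict _ fun x => ?_
  obtain ⟨y, hy⟩ := (Proj.map (K35.Regrade.toSub 𝒜 h0) (K35.Regrade.irr_toSub 𝒜 h0)).homeomorph.surjective x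
  exact ⟨_, _, inferInstance, y, hy, Groth.Agent.PerfA.QCohSerre.isQCoh_of_iso e.symm h1⟩

end qcoh

end K37.TwistQCoh
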