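import Groth.Agent.EGA2.K37.ConeProj
import Groth.Agent.EGA2.K37.LocTarget

/-!
# The canonical open immersion of the affine cone into the projective cone
-/

set_option autoImplicit false
universe u
open CategoryTheory CategoryTheory.Limits AlgebraicGeometry Opposite TopologicalSpace
open HomogeneousLocalization
open scoped HomogeneousIdeal

namespace K37.ConeImm

section general

variable {S : Scheme.{u}} {𝒮 : RelProj.QCGrAlg S} {P : Scheme.{u}} (p : P ⟶ S)
  (chart : ∀ (U : S.Opens) (hU : IsAffineOpen U), (((p ⁻¹ᵁ U : P.Opens) : Scheme.{u}) ≅ Proj (𝒮.deg U hU)))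

theorem emb_mem_image_iff (U : S.Opens) (hU : IsAffineOpen U) (V : (Proj (𝒮.deg U hU)).Opens)
    (x : Proj (𝒮.deg U hU)) :
    RelProj.emb p chart U hU x ∈ (p ⁻¹ᵁ U).ι ''ᵁ ((chart U hU).hom ⁻¹ᵁ V) ↔ x ∈ V := by
  have e : (chart U hU).hom ((chart U hU).inv x) = x := by
    rw [← Scheme.Hom.comp_apply, Iso.inv_hom_id]
    rfl
  constructor
  · rintro ⟨y, hy, hyx⟩
    have h1 : y = (chart U hU).inv x := (p ⁻¹ᵁ U).ι.isOpenEmbedding.injective hyx
    subst h1
    have h2 : (chart U hU).hom ((chart U hU).inv x) ∈ V := hy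
    rwa [e] at h2
  · intro hx
    refine ⟨(chart U hU).inv x, ?_, rfl⟩
    change (chart U hU).hom ((chart U hU).inv x) ∈ V
    rwa [e]

theorem mem_inf_iff (U : S.Opens) (hU : IsAffineOpen U) (X : P.Opens) (V : (Proj (𝒮.deg U hU)).Opens)
    (h : X ⊓ p ⁻¹ᵁ U = (p ⁻¹ᵁ U).ι ''ᵁ ((chart U hU).hom ⁻¹ᵁ V)) (x : Proj (𝒮.deg U hU)) :
    RelProj.emb p chart U hU x ∈ X ↔ x ∈ V := by
  rw [← emb_mem_image_iff p chart U hU V x, ← h]
  exact ⟨fun hx => ⟨hx, ProjBase.emb_mem p chart U hU x⟩, fun hx => hx.1⟩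

end general

variable {Y PC : Scheme.{u}} {𝒮 𝒮h : RelProj.QCGrAlg Y}
    {ι : 𝒮.toQCAlg ⟶ 𝒮h.toQCAlg} {z : 𝒮h.presheaf.obj (op ⊤)} (hz : RelCone.IsPolyOver 𝒮 𝒮h ι z)

theorem restrictTop_res {U V : Y.Opens} (i : V ≤ U) :
    (𝒮h.presheaf.map (homOfLE i).op).hom (RelCone.restrictTop 𝒮h z U) = RelCone.restrictTop 𝒮h z V := by
  change (𝒮h.presheaf.map (homOfLE i).op).hom ((𝒮h.presheaf.map (homOfLE le_top).op).hom z) = _
  rw [← CommRingCat.comp_apply, ← Functor.map_comp]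
  rfl

theorem evalOne_res {U V : Y.Opens} (hU : IsAffineOpen U) (hV : IsAffineOpen V) (i : V ≤ U)
    (x : 𝒮h.presheaf.obj (op U)) :
    hz.evalOne V hV ((𝒮h.presheaf.map (homOfLE i).op).hom x) =
      (𝒮.presheaf.map (homOfLE i).op).hom (hz.evalOne U hU x) := by
  have key : ((hz.evalOne V hV).comp (𝒮h.presheaf.map (homOfLE i).op).hom).comp
      (Polynomial.eval₂RingHom (ι.hom.app (op U)).hom (RelCone.restrictTop 𝒮h z U)) =
      ((𝒮.presheaf.map (homOfLE i).op).hom.comp (hz.evalOne U hU)).comp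
      (Polynomial.eval₂RingHom (ι.hom.app (op U)).hom (RelCone.restrictTop 𝒮h z U)) := by
    apply Polynomial.ringHom_ext
    · intro a
      simp only [RingHom.comp_apply, Polynomial.coe_eval₂RingHom, Polynomial.eval₂_C]
      have hnat : (𝒮h.presheaf.map (homOfLE i).op).hom ((ι.hom.app (op U)).hom a) =
          (ι.hom.app (op V)).hom ((𝒮.presheaf.map (homOfLE i).op).hom a) :=
        (congrArg (fun g => g.hom a) (ι.hom.naturality (homOfLE i).op)).symm
      rw [hnat, hz.evalOne_ι, hz.evalOne_ι]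
    · simp only [RingHom.comp_apply, Polynomial.coe_eval₂RingHom, Polynomial.eval₂_X]
      rw [restrictTop_res, hz.evalOne_z, hz.evalOne_z, map_one]
  obtain ⟨q, rfl⟩ := (hz.bij U hU).2 x
  exact congrArg (fun g => g q) key

include hz in
theorem z_regular (U : Y.Opens) (hU : IsAffineOpen U) (b : 𝒮h.presheaf.obj (op U))
    (hb : RelCone.restrictTop 𝒮h z U * b = 0) : b = 0 := by
  obtain ⟨q, rfl⟩ := (hz.bij U hU).2 b
  have h1 : Polynomial.eval₂RingHom (ι.hom.app (op U)).hom (RelCone.restrictTop 𝒮h z U)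
      (Polynomial.X * q) = 0 := by
    rw [map_mul]
    simpa using hb
  have h2 : Polynomial.X * q = 0 := (hz.bij U hU).1 (h1.trans (map_zero _).symm)
  have h3 : q = 0 := by
    ext n
    have := congrArg (fun r => Polynomial.coeff r (n + 1)) h2
    simpa using this
  rw [h3, map_zero]

theorem theta_res {U V : Y.Opens} (hU : IsAffineOpen U) (hV : IsAffineOpen V) (i : V ≤ U) :
    (hz.awayZToBase V hV).comp (ProjRing.awayMapTo (𝒮h.res hU hV i) (restrictTop_res i)) =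
      (𝒮.presheaf.map (homOfLE i).op).hom.comp (hz.awayZToBase U hU) := by
  ext q
  obtain ⟨n, x, hx, rfl⟩ := Away.mk_surjective (𝒮h.deg U hU) (hz.deg_z U hU) q
  rw [RingHom.comp_apply, RingHom.comp_apply, ConeProj.thetaSpec hz U hU n x hx,
    ProjRing.awayMapTo_mk (𝒮h.res hU hV i) (restrictTop_res i) (hz.deg_z U hU) (hz.deg_z V hV) n x hx,
    ConeProj.thetaSpec hz V hV n _ _, ← evalOne_res hz hU hV i x]
  rfl

variable {pC : PC ⟶ Y}
    {chartC : ∀ (U : Y.Opens) (hU : IsAffineOpen U), (((pC ⁻¹ᵁ U : PC.Opens) : Scheme.{u}) ≅ Proj (𝒮h.deg U hU))}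
    (hPC : RelProj.IsRelProj 𝒮h pC chartC)

include hPC in
/-- Existence and uniqueness of the canonical morphism. -/
theorem existsUnique : ∃! i : 𝒮.toQCAlg.spec ⟶ PC, RelCone.IsConeImm 𝒮 hz pC chartC i := by
  apply SpecBase.existsUnique_desc 𝒮.toQCAlg (fun U hU =>
      Spec.map (CommRingCat.ofHom (hz.awayZToBase U hU)) ≫
        Proj.awayι (𝒮h.deg U hU) (RelCone.restrictTop 𝒮h z U) (hz.deg_z U hU) one_pos ≫ RelProj.emb pC chartC U hU)
  intro U hU r
  have h1 := ProjBase.emb_res_of_eq hPC hU (hU.basicOpen r) r rfl (Y.basicOpen_le r)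
  have h2 := ProjRing.awayι_comp_map' (𝒮h.res hU (hU.basicOpen r) (Y.basicOpen_le r))
    (ProjBase.irr_of_eq 𝒮h hU (hU.basicOpen r) r rfl (Y.basicOpen_le r)) one_pos (hz.deg_z U hU)
    (restrictTop_res (Y.basicOpen_le r)) (hz.deg_z _ (hU.basicOpen r))
  rw [← h1, reassoc_of% h2, ← Spec.map_comp_assoc, ← Spec.map_comp_assoc]
  congr 2
  ext1
  exact (theta_res hz hU (hU.basicOpen r) (Y.basicOpen_le r)).symm

variable {i : 𝒮.toQCAlg.spec ⟶ PC} (hi : RelCone.IsConeImm 𝒮 hz pC chartC i)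

theorem chart_of (Q : MorphismProperty Scheme.{u}) [Q.RespectsIso] (U : Y.Opens) (hU : IsAffineOpen U)
    (hQ : Q (Proj.awayι (𝒮h.deg U hU) (RelCone.restrictTop 𝒮h z U) (hz.deg_z U hU) one_pos)) :
    Q (Spec.map (CommRingCat.ofHom (hz.awayZToBase U hU)) ≫
        Proj.awayι (𝒮h.deg U hU) (RelCone.restrictTop 𝒮h z U) (hz.deg_z U hU) one_pos) := by
  have := ConeProj.isIso_SpecMap hz U hU
  rw [Q.cancel_left_of_respectsIso]
  exact hQ

theorem chart_ker (U : Y.Opens) (hU : IsAffineOpen U) :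
    (Spec.map (CommRingCat.ofHom (hz.awayZToBase U hU)) ≫
        Proj.awayι (𝒮h.deg U hU) (RelCone.restrictTop 𝒮h z U) (hz.deg_z U hU) one_pos).ker = ⊥ := by
  have := ConeProj.isIso_SpecMap hz U hU
  rw [Scheme.Hom.ker_comp_of_isIso]
  exact LocTarget.ker_awayι_eq_bot (𝒮h.deg U hU) (hz.deg_z U hU) one_pos (z_regular hz U hU)

include hPC hi in
theorem of_charts (Q : MorphismProperty Scheme.{u}) [IsZariskiLocalAtTarget Q]
    (hQ : ∀ (U : Y.Opens) (hU : IsAffineOpen U),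
      Q (Proj.awayι (𝒮h.deg U hU) (RelCone.restrictTop 𝒮h z U) (hz.deg_z U hU) one_pos)) : Q i :=
  LocTarget.of_squares i (ProjBase.cover pC chartC) _ _ _
    (fun U => ConeProj.isPullback_coneImm hz hPC hi U.1 U.2) Q fun U => chart_of hz Q U.1 U.2 (hQ U.1 U.2)

include hPC hi in
theorem isOpenImmersion : IsOpenImmersion i :=
  of_charts hz hPC hi @IsOpenImmersion fun _ _ => inferInstance

include hPC hi in
theorem isAffineHom : IsAffineHom i :=
  have := LocTarget.isZariskiLocalAtTarget_isAffineHom.{u}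
  of_charts hz hPC hi (@IsAffineHom.{u}) fun U hU =>
    LocTarget.isAffineHom_awayι (𝒮h.deg U hU) (hz.deg_z U hU) one_pos

include hPC hi in
theorem ker_eq_bot : i.ker = ⊥ := by
  have := isAffineHom hz hPC hi
  exact LocTarget.ker_eq_bot_of_squares i (ProjBase.cover pC chartC) _ _ _
    (fun U => ConeProj.isPullback_coneImm hz hPC hi U.1 U.2) fun U => chart_ker hz U.1 U.2

include hPC hi in
theorem range_eq (Xz : PC.Opens) (h : ∀ (U : Y.Opens) (hU : IsAffineOpen U),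
            Xz ⊓ pC ⁻¹ᵁ U =
              (pC ⁻¹ᵁ U).ι ''ᵁ ((chartC U hU).hom ⁻¹ᵁ
                Proj.basicOpen (𝒮h.deg U hU) (RelCone.restrictTop 𝒮h z U))) :
    Set.range i.base = (Xz : Set PC) := by
  ext c
  obtain ⟨U, hU, x, rfl⟩ := ProjBase.exists_chart pC chartC c
  have h1 := ConeProj.emb_mem_range_i_iff hz hPC hi U hU x
  have h2 := mem_inf_iff pC chartC U hU Xz _ (h U hU) x
  exact h1.trans h2.symm

end K37.ConeImm
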