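import Mathlib.AlgebraicGeometry.ProjectiveSpectrum.Functor
import Mathlib.AlgebraicGeometry.ProjectiveSpectrum.Basic

/-!
# The graded ring `B = A[z]` and the isomorphism `B_(z) ≅ A`

`ι : 𝒜 →+*ᵍ ℬ` graded, `z ∈ ℬ 1`, `A[X] → B` surjective, `ev : B → A` with `ev ∘ ι = id`, `ev z = 1`.
-/

set_option autoImplicit false
universe u
open CategoryTheory AlgebraicGeometry HomogeneousLocalization
open scoped HomogeneousIdeal

namespace K37.PolyRing

variable {A B σ τ : Type u} [CommRing A] [CommRing B] [SetLike σ A] [AddSubgroupClass σ A]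
  [SetLike τ B] [AddSubgroupClass τ B] {𝒜 : ℕ → σ} [GradedRing 𝒜] {ℬ : ℕ → τ} [GradedRing ℬ]
  (ι : 𝒜 →+*ᵍ ℬ) {z : B} (hz : z ∈ ℬ 1)
  (hsurj : Function.Surjective (Polynomial.eval₂RingHom (ι : A →+* B) z))

include hz hsurj in
/-- A homogeneous element of degree `k` is `∑ ι(a_j) z^(k-j)` with `a_j` homogeneous of degree `j`. -/
theorem exists_expansion {k : ℕ} {x : B} (hx : x ∈ ℬ k) :
    ∃ a : ℕ → A, (∀ j, a j ∈ 𝒜 j) ∧ x = ∑ j ∈ Finset.range (k + 1), ι (a j) * z ^ (k - j) := by
  classical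
  obtain ⟨p, hp⟩ := hsurj x
  have hp' : x = ∑ j ∈ Finset.range (p.natDegree + 1), ι (p.coeff j) * z ^ j := by
    rw [← hp, Polynomial.coe_eval₂RingHom, Polynomial.eval₂_eq_sum_range]
    rfl
  have h1 : x = ∑ j ∈ Finset.range (p.natDegree + 1),
      if j ≤ k then ι (DirectSum.decompose 𝒜 (p.coeff j) (k - j) : A) * z ^ j else 0 := by
    conv_lhs => rw [← DirectSum.decompose_of_mem_same ℬ hx]
    rw [hp', DirectSum.decompose_sum, DFinsupp.finsetSum_apply, AddSubmonoidClass.coe_finsetSum]
    refine Finset.sum_congr rfl fun j _ => ?_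
    have hzj : z ^ j ∈ ℬ j := by simpa using SetLike.pow_mem_graded j hz
    rw [DirectSum.coe_decompose_mul_of_right_mem ℬ k hzj]
    split_ifs with h
    · rw [GradedRingHom.map_directSumDecompose]
    · rfl
  refine ⟨fun i => (DirectSum.decompose 𝒜 (if i ≤ k then p.coeff (k - i) else 0) i : A),
    fun j => SetLike.coe_mem _, ?_⟩
  rw [h1, ← Finset.sum_filter, ← Finset.sum_filter_add_sum_filter_not
    (Finset.range (k + 1)) (fun j => k - j ≤ p.natDegree)]
  have h2 : ∑ j ∈ Finset.range (k + 1) with ¬ (k - j ≤ p.natDegree),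
      ι (DirectSum.decompose 𝒜 (if j ≤ k then p.coeff (k - j) else 0) j : A) * z ^ (k - j) = 0 := by
    refine Finset.sum_eq_zero fun j hj => ?_
    rw [Finset.mem_filter] at hj
    have h0 : p.coeff (k - j) = 0 := Polynomial.coeff_eq_zero_of_natDegree_lt (not_le.mp hj.2)
    have h0' : (if j ≤ k then p.coeff (k - j) else 0) = 0 := by split_ifs <;> simp [h0]
    rw [h0', DirectSum.decompose_zero]
    simp
  rw [h2, add_zero]
  symm
  refine Finset.sum_bij' (fun j _ => k - j) (fun j _ => k - j) ?_ ?_ ?_ ?_ ?_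
  · intro j hj
    simp only [Finset.mem_filter, Finset.mem_range] at hj ⊢
    omega
  · intro j hj
    simp only [Finset.mem_filter, Finset.mem_range] at hj ⊢
    omega
  · intro j hj
    simp only [Finset.mem_filter, Finset.mem_range] at hj ⊢
    omega
  · intro j hj
    simp only [Finset.mem_filter, Finset.mem_range] at hj ⊢
    omega
  · intro j hj
    simp only [Finset.mem_filter, Finset.mem_range] at hj
    have hjk : j ≤ k := by omega
    have e : k - (k - j) = j := by omega
    dsimp only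
    rw [if_pos hjk, e]

variable (ev : B →+* A) (hι : ∀ a, ev (ι a) = a) (hev : ev z = 1)

include hz hsurj hι hev in
theorem eq_zero_of_ev {k : ℕ} {x : B} (hx : x ∈ ℬ k) (h : ev x = 0) : x = 0 := by
  classical
  obtain ⟨a, ha, rfl⟩ := exists_expansion ι hz hsurj hx
  have h1 : ∑ j ∈ Finset.range (k + 1), a j = 0 := by
    rw [← h, map_sum]
    refine Finset.sum_congr rfl fun j _ => ?_
    rw [map_mul, map_pow, hev, one_pow, mul_one, hι]
  have h2 : ∀ i ∈ Finset.range (k + 1), a i = 0 := by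
    intro i hi
    have h3 : ((DirectSum.decompose 𝒜 (∑ j ∈ Finset.range (k + 1), a j)) i : A) = 0 := by
      rw [h1, DirectSum.decompose_zero]
      rfl
    rw [DirectSum.decompose_sum, DFinsupp.finsetSum_apply, AddSubmonoidClass.coe_finsetSum,
      Finset.sum_eq_single i] at h3
    · rwa [DirectSum.decompose_of_mem_same 𝒜 (ha i)] at h3
    · intro j _ hj
      exact DirectSum.decompose_of_mem_ne 𝒜 (ha j) hj
    · intro h; exact absurd hi h
  refine Finset.sum_eq_zero fun i hi => ?_
  rw [h2 i hi, map_zero, zero_mul]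

section theta

variable (θ : Away ℬ z →+* A)

/-- the value of the comparison map on fractions. -/
def ThetaSpec : Prop := ∀ (n : ℕ) (x : B) (hx : x ∈ ℬ (n • 1)), θ (Away.mk ℬ hz n x hx) = ev x

include hz hsurj hι hev in
/-- It is enough to know `θ` on the fractions `ι(a)/z^k`. -/
theorem thetaSpec_of (hθ : ∀ (q : Away ℬ z) (k : ℕ) (x : A), x ∈ 𝒜 k →
      q.val = Localization.mk (ι x) ⟨z ^ k, pow_mem (Submonoid.mem_powers z) k⟩ → θ q = x) :
    ThetaSpec hz ev θ := by
  classical
  intro n x hx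
  have hx' : x ∈ ℬ n := by simpa using hx
  obtain ⟨a, ha, hxa⟩ := exists_expansion ι hz hsurj hx'
  have ha' : ∀ j, ι (a j) ∈ ℬ (j • 1) := fun j => by simpa using ι.map_mem (ha j)
  have e1 : Away.mk ℬ hz n x hx = ∑ j ∈ Finset.range (n + 1), Away.mk ℬ hz j (ι (a j)) (ha' j) := by
    apply HomogeneousLocalization.val_injective
    rw [Away.val_mk, ← HomogeneousLocalization.algebraMap_apply, map_sum]
    simp_rw [HomogeneousLocalization.algebraMap_apply, Away.val_mk]
    rw [hxa, Localization.mk_sum]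
    refine Finset.sum_congr rfl fun j hj => ?_
    rw [Finset.mem_range] at hj
    rw [Localization.mk_eq_mk_iff, Localization.r_iff_exists]
    refine ⟨1, ?_⟩
    change 1 * (z ^ j * (ι (a j) * z ^ (n - j))) = 1 * (z ^ n * ι (a j))
    have : z ^ n = z ^ j * z ^ (n - j) := by rw [← pow_add]; congr 1; omega
    rw [this]; ring
  rw [e1, map_sum, hxa, map_sum]
  refine Finset.sum_congr rfl fun j _ => ?_
  rw [map_mul, map_pow, hev, one_pow, mul_one, hι]
  exact hθ _ j (a j) (ha j) (Away.val_mk ..)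

include hz hsurj hι hev in
theorem theta_bijective (hθ : ThetaSpec hz ev θ) : Function.Bijective θ := by
  classical
  constructor
  · rw [injective_iff_map_eq_zero]
    intro q hq
    obtain ⟨n, x, hx, rfl⟩ := Away.mk_surjective ℬ hz q
    rw [hθ] at hq
    have hx' : x ∈ ℬ n := by simpa using hx
    have := eq_zero_of_ev ι hz hsurj ev hι hev hx' hq
    subst this
    apply HomogeneousLocalization.val_injective
    rw [Away.val_mk, Localization.mk_zero, val_zero]
  · intro a
    have ha' : ∀ j, ι (DirectSum.decompose 𝒜 a j : A) ∈ ℬ (j • 1) := fun j => by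
      rw [smul_eq_mul, mul_one]
      exact ι.map_mem (SetLike.coe_mem (DirectSum.decompose 𝒜 a j))
    refine ⟨∑ j ∈ (DirectSum.decompose 𝒜 a).support, Away.mk ℬ hz j _ (ha' j), ?_⟩
    rw [map_sum]
    conv_rhs => rw [← DirectSum.sum_support_decompose 𝒜 a]
    refine Finset.sum_congr rfl fun j _ => ?_
    rw [hθ, hι]

include hz in
/-- Points of `D_+(z)` in terms of points of `Spec A`. -/
theorem mem_awayι_iff (hθ : ThetaSpec hz ev θ) (r : Spec (CommRingCat.of A)) {k : ℕ} (hk : 0 < k) {g : B}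
    (hg : g ∈ ℬ k) :
    g ∈ (Proj.awayι ℬ z hz one_pos (Spec.map (CommRingCat.ofHom θ) r)).asHomogeneousIdeal ↔
      ev g ∈ r.asIdeal := by
  rw [← not_iff_not]
  have h1 : g ∉ (Proj.awayι ℬ z hz one_pos (Spec.map (CommRingCat.ofHom θ) r)).asHomogeneousIdeal ↔
      Spec.map (CommRingCat.ofHom θ) r ∈ Proj.awayι ℬ z hz one_pos ⁻¹ᵁ Proj.basicOpen ℬ g := Iff.rfl
  rw [h1, Proj.awayι_preimage_basicOpen ℬ hz one_pos hg hk]
  change θ (Away.isLocalizationElem hz hg) ∉ r.asIdeal ↔ _
  have h3 : θ (Away.isLocalizationElem hz hg) = ev g := by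
    have h4 : (Away.isLocalizationElem hz hg : Away ℬ z) =
        Away.mk ℬ hz k g (by simpa using hg) := by
      apply HomogeneousLocalization.val_injective
      rw [Away.val_mk]
      change (Away.mk ℬ hz k (g ^ 1) (by simpa using hg)).val = _
      rw [Away.val_mk]
      simp
    rw [h4, hθ]
  rw [h3]

end theta

end K37.PolyRing
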