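import Groth.Prelude.Def_RelSpec2
import Groth.Agent.EGA2.K37.ProjBase
import Groth.Agent.EGA2.K37.PolyRing
import Groth.Agent.EGA2.K37.ConeBase

/-!
# The affine cone inside the projective cone

`IsPolyOver`, `IsConeImm`: range of `i`, the part at infinity, the pointed projective cone.
-/

set_option autoImplicit false
universe u
open CategoryTheory CategoryTheory.Limits AlgebraicGeometry Opposite TopologicalSpace
open HomogeneousLocalization
open scoped HomogeneousIdeal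

namespace K37.ConeProj

variable {Y PC : Scheme.{u}} {𝒮 𝒮h : RelProj.QCGrAlg Y}
    {ι : 𝒮.toQCAlg ⟶ 𝒮h.toQCAlg} {z : 𝒮h.presheaf.obj (op ⊤)} (hz : RelCone.IsPolyOver 𝒮 𝒮h ι z)

theorem thetaSpec (U : Y.Opens) (hU : IsAffineOpen U) :
    PolyRing.ThetaSpec (hz.deg_z U hU) (hz.evalOne U hU) (hz.awayZToBase U hU) := by
  intro n x hx
  exact hz.awayZToBase_of_val U hU _ x n (Away.val_mk ..)

theorem hsurj (U : Y.Opens) (hU : IsAffineOpen U) : Function.Surjective (Polynomial.eval₂RingHom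
    (RelProj.gradedHomAt ι hz.graded U hU : 𝒮.presheaf.obj (op U) →+* 𝒮h.presheaf.obj (op U))
      (RelCone.restrictTop 𝒮h z U)) :=
  (hz.bij U hU).2

theorem evι (U : Y.Opens) (hU : IsAffineOpen U) (a : 𝒮.presheaf.obj (op U)) :
    hz.evalOne U hU (RelProj.gradedHomAt ι hz.graded U hU a) = a := hz.evalOne_ι U hU a

theorem awayZToBase_bijective (U : Y.Opens) (hU : IsAffineOpen U) :
    Function.Bijective (hz.awayZToBase U hU) :=
  PolyRing.theta_bijective (RelProj.gradedHomAt ι hz.graded U hU) (hz.deg_z U hU) (hsurj hz U hU)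
    (hz.evalOne U hU) (evι hz U hU) (hz.evalOne_z U hU) _ (thetaSpec hz U hU)

theorem isIso_SpecMap (U : Y.Opens) (hU : IsAffineOpen U) :
    IsIso (Spec.map (CommRingCat.ofHom (hz.awayZToBase U hU))) := by
  have : IsIso (CommRingCat.ofHom (hz.awayZToBase U hU)) :=
    (ConcreteCategory.isIso_iff_bijective _).2 (awayZToBase_bijective hz U hU)
  infer_instance

theorem str_theta (U : Y.Opens) (hU : IsAffineOpen U) :
    𝒮h.strZero U hU ≫ CommRingCat.ofHom (fromZeroRingHom (𝒮h.deg U hU) (Submonoid.powers (RelCone.restrictTop 𝒮h z U))) ≫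
      CommRingCat.ofHom (hz.awayZToBase U hU) = 𝒮.str.app (op U) := by
  ext r
  change hz.awayZToBase U hU (mk _) = (𝒮.str.app (op U)).hom r
  rw [hz.awayZToBase_of_val U hU _ ((𝒮h.str.app (op U)).hom r) 0]
  · have h1 : (𝒮h.str.app (op U)).hom r = (ι.hom.app (op U)).hom ((𝒮.str.app (op U)).hom r) := by
      rw [← ι.comm]; rfl
    rw [h1, hz.evalOne_ι]
  · rw [val_mk]
    congr 1
    exact Subtype.ext (pow_zero _).symm

variable {pC : PC ⟶ Y}
    {chartC : ∀ (U : Y.Opens) (hU : IsAffineOpen U), (((pC ⁻¹ᵁ U : PC.Opens) : Scheme.{u}) ≅ Proj (𝒮h.deg U hU))}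
    (hPC : RelProj.IsRelProj 𝒮h pC chartC)
    {i : 𝒮.toQCAlg.spec ⟶ PC} (hi : RelCone.IsConeImm 𝒮 hz pC chartC i)

include hPC hi in
theorem coneImm_p : i ≫ pC = 𝒮.toQCAlg.π := by
  apply SpecBase.hom_ext
  intro U hU
  rw [← Category.assoc, hi U hU, 𝒮.toQCAlg.ι_π U hU, Category.assoc, Category.assoc, ProjBase.emb_p hPC,
    Proj.awayι_toSpecZero_assoc, ← Spec.map_comp_assoc, ← Spec.map_comp_assoc]
  congr 2
  rw [← str_theta hz U hU]

include hPC hi in
theorem isPullback_coneImm (U : Y.Opens) (hU : IsAffineOpen U) :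
    IsPullback (Spec.map (CommRingCat.ofHom (hz.awayZToBase U hU)) ≫
        Proj.awayι (𝒮h.deg U hU) (RelCone.restrictTop 𝒮h z U) (hz.deg_z U hU) one_pos)
      (𝒮.toQCAlg.ι U hU) (RelProj.emb pC chartC U hU) i := by
  apply IsOpenImmersion.isPullback
  · rw [hi U hU, Category.assoc]
  · rw [ProjBase.opensRange_emb, ← Scheme.Hom.comp_preimage, coneImm_p hz hPC hi, 𝒮.toQCAlg.π_preimage U hU]

include hPC hi in
theorem emb_mem_range_i_iff (U : Y.Opens) (hU : IsAffineOpen U) (x : Proj (𝒮h.deg U hU)) :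
    RelProj.emb pC chartC U hU x ∈ Set.range i ↔
      RelCone.restrictTop 𝒮h z U ∉ x.asHomogeneousIdeal := by
  have hD : RelCone.restrictTop 𝒮h z U ∉ x.asHomogeneousIdeal ↔
      x ∈ Set.range (Proj.awayι (𝒮h.deg U hU) (RelCone.restrictTop 𝒮h z U) (hz.deg_z U hU) one_pos) := by
    have := Proj.opensRange_awayι (𝒮h.deg U hU) (RelCone.restrictTop 𝒮h z U) (hz.deg_z U hU) one_pos
    change x ∈ Proj.basicOpen (𝒮h.deg U hU) (RelCone.restrictTop 𝒮h z U) ↔ _
    rw [← this]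
    exact Iff.rfl
  rw [hD]
  constructor
  · rintro ⟨c, hc⟩
    have hcU : 𝒮.toQCAlg.π c ∈ U := by
      rw [← coneImm_p hz hPC hi, Scheme.Hom.comp_apply, hc]
      exact ProjBase.emb_mem pC chartC U hU x
    obtain ⟨c', rfl⟩ := SpecBase.exists_of_mem 𝒮.toQCAlg U hU c hcU
    refine ⟨Spec.map (CommRingCat.ofHom (hz.awayZToBase U hU)) c',
      (RelProj.emb pC chartC U hU).isOpenEmbedding.injective ?_⟩
    rw [← hc, ← Scheme.Hom.comp_apply, ← Scheme.Hom.comp_apply, ← Scheme.Hom.comp_apply, hi U hU]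
  · rintro ⟨w, rfl⟩
    have := isIso_SpecMap hz U hU
    obtain ⟨c', rfl⟩ := (Spec.map (CommRingCat.ofHom (hz.awayZToBase U hU))).homeomorph.surjective w
    refine ⟨𝒮.toQCAlg.ι U hU c', ?_⟩
    rw [← Scheme.Hom.comp_apply, hi U hU]
    rfl

section infinity

variable {P : Scheme.{u}} {θ : 𝒮h.toQCAlg ⟶ 𝒮.toQCAlg} {hθ : RelProj.IsGradedHom θ} (hιθ : ι ≫ θ = 𝟙 _)
    (hθz : (θ.hom.app (op ⊤)).hom z = 0)
    {hirr : ∀ (U : Y.Opens) (hU : IsAffineOpen U),
      (𝒮.deg U hU)₊ ≤ ((𝒮h.deg U hU)₊).map (RelProj.gradedHomAt θ hθ U hU)}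
    {p : P ⟶ Y}
    {chart : ∀ (U : Y.Opens) (hU : IsAffineOpen U), (((p ⁻¹ᵁ U : P.Opens) : Scheme.{u}) ≅ Proj (𝒮.deg U hU))}
    (hP : RelProj.IsRelProj 𝒮 p chart) {j : P ⟶ PC} (hj : RelProj.IsRelProjMap θ hθ hirr chartC chart j)

include hιθ in
theorem θι (U : Y.Opens) (a : 𝒮.presheaf.obj (op U)) :
    (θ.hom.app (op U)).hom ((ι.hom.app (op U)).hom a) = a := by
  have h1 := congrArg (fun f => (RelSpec.QCAlg.Hom.hom f).app (op U)) hιθ
  exact congrArg (fun f => f.hom a) h1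

include hθz in
theorem θz (U : Y.Opens) : (θ.hom.app (op U)).hom (RelCone.restrictTop 𝒮h z U) = 0 := by
  have h1 := θ.hom.naturality (homOfLE (le_top : U ≤ ⊤)).op
  have h2 := congrArg (fun f => f.hom z) h1
  exact h2.trans ((congrArg (𝒮.presheaf.map (homOfLE (le_top : U ≤ ⊤)).op).hom hθz).trans (map_zero _))

include hιθ in
theorem posSurj_θ (U : Y.Opens) (hU : IsAffineOpen U) : ProjRing.PosSurj (RelProj.gradedHomAt θ hθ U hU) := by
  intro k _ b hb
  -- `b = θ (ι b)`, but `ι b` has the degree of `b`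
  refine ⟨(DirectSum.decompose (𝒮h.deg U hU) ((ι.hom.app (op U)).hom b) k : 𝒮h.presheaf.obj (op U)),
    SetLike.coe_mem _, ?_⟩
  rw [GradedRingHom.map_directSumDecompose]
  have h1 : RelProj.gradedHomAt θ hθ U hU ((ι.hom.app (op U)).hom b) = b := θι hιθ U b
  rw [h1, DirectSum.decompose_of_mem_same _ hb]

include hz hιθ hθz hPC hP hj in
theorem emb_mem_range_j_iff (U : Y.Opens) (hU : IsAffineOpen U) (x : Proj (𝒮h.deg U hU)) :
    RelProj.emb pC chartC U hU x ∈ Set.range j ↔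
      RelCone.restrictTop 𝒮h z U ∈ x.asHomogeneousIdeal := by
  rw [ProjBase.emb_mem_range_iff hj hPC hP U hU x,
    ProjRing.mem_range_map_iff (hirr U hU) (posSurj_θ hιθ U hU) x]
  constructor
  · intro h
    exact h 1 _ one_pos (hz.deg_z U hU) (θz hθz U)
  · intro hx d a hd ha ha0
    obtain ⟨c, hc, rfl⟩ := PolyRing.exists_expansion (RelProj.gradedHomAt ι hz.graded U hU)
      (hz.deg_z U hU) (hsurj hz U hU) ha
    have h1 : ∀ k ∈ Finset.range d, RelProj.gradedHomAt ι hz.graded U hU (c k) *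
        RelCone.restrictTop 𝒮h z U ^ (d - k) ∈ x.asHomogeneousIdeal := by
      intro k hk
      rw [Finset.mem_range] at hk
      have e : d - k = (d - k - 1) + 1 := by omega
      rw [e, pow_succ, ← mul_assoc]
      exact Ideal.mul_mem_left _ _ hx
    have h2 : c d = 0 := by
      have h3 : ∀ k ∈ Finset.range d, RelProj.gradedHomAt θ hθ U hU
          (RelProj.gradedHomAt ι hz.graded U hU (c k) * RelCone.restrictTop 𝒮h z U ^ (d - k)) = 0 := by
        intro k hk
        rw [Finset.mem_range] at hk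
        have e : d - k = (d - k - 1) + 1 := by omega
        have hz0 : RelProj.gradedHomAt θ hθ U hU (RelCone.restrictTop 𝒮h z U) = 0 := θz hθz U
        rw [map_mul, e, pow_succ, map_mul, hz0, mul_zero, mul_zero]
      rw [map_sum, Finset.sum_range_succ, Finset.sum_eq_zero h3, zero_add, Nat.sub_self, pow_zero, mul_one] at ha0
      exact (θι hιθ U (c d)).symm.trans ha0
    rw [Finset.sum_range_succ, h2, map_zero, zero_mul, add_zero]
    exact sum_mem h1

include hz hιθ hθz hPC hP hj hi in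
theorem range_i_eq : Set.range i = (Set.range j)ᶜ := by
  ext c
  obtain ⟨U, hU, x, rfl⟩ := ProjBase.exists_chart pC chartC c
  rw [Set.mem_compl_iff, emb_mem_range_i_iff hz hPC hi, emb_mem_range_j_iff hz hPC hιθ hθz hP hj]

end infinity

end K37.ConeProj
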