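import Groth.Prelude.Def_RelSpec2
import Groth.Agent.EGA2.K37.SpecBase

/-!
# The pointed affine cone chart by chart, and graded morphisms over a base change
-/

set_option autoImplicit false
universe u
open CategoryTheory CategoryTheory.Limits AlgebraicGeometry Opposite TopologicalSpace
open scoped HomogeneousIdeal

namespace K37.ConePts

section ring

variable {A B : CommRingCat.{u}} {𝒜 : ℕ → AddSubgroup A} [GradedRing 𝒜] {ℬ : ℕ → AddSubgroup B}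
  [GradedRing ℬ]

theorem mem_vertexCompl (x : Spec A) : x ∈ RelCone.vertexCompl 𝒜 ↔ ¬ (𝒜₊.toIdeal ≤ x.asIdeal) := Iff.rfl

/-- a graded homomorphism maps the irrelevant ideal into the irrelevant ideal. -/
theorem map_irrelevant_le (ψ : 𝒜 →+*ᵍ ℬ) {a : A} (ha : a ∈ 𝒜₊) : ψ a ∈ ℬ₊ := by
  classical
  rw [HomogeneousIdeal.mem_irrelevant_iff, GradedRing.proj_apply] at ha ⊢
  rw [← GradedRingHom.map_directSumDecompose, ha, map_zero]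

theorem vertexCompl_of_comap (ψ : 𝒜 →+*ᵍ ℬ) (w : Spec B)
    (h : ¬ (𝒜₊.toIdeal ≤ w.asIdeal.comap (ψ : A →+* B))) : ¬ (ℬ₊.toIdeal ≤ w.asIdeal) :=
  fun hw => h fun _ ha => hw (map_irrelevant_le ψ ha)

theorem vertexCompl_iff_comap (ψ : 𝒜 →+*ᵍ ℬ) (hψ : ℬ₊ ≤ (𝒜₊).map ψ) (w : Spec B) :
    (¬ (𝒜₊.toIdeal ≤ w.asIdeal.comap (ψ : A →+* B))) ↔ ¬ (ℬ₊.toIdeal ≤ w.asIdeal) := by
  refine ⟨vertexCompl_of_comap ψ w, fun h hw => h ?_⟩
  have h1 : (𝒜₊.toIdeal).map (ψ : A →+* B) ≤ w.asIdeal := Ideal.map_le_iff_le_comap.mpr hw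
  exact le_trans (show ℬ₊.toIdeal ≤ (𝒜₊.toIdeal).map (ψ : A →+* B) from hψ) h1

/-- The relevant homogeneous prime attached to a prime not containing the irrelevant ideal. -/
theorem exists_core (x : Spec B) (hx : ¬ (ℬ₊.toIdeal ≤ x.asIdeal)) :
    ∃ p : Proj ℬ, ∀ (i : ℕ) (b : B), b ∈ ℬ i → (b ∈ p.asHomogeneousIdeal ↔ b ∈ x.asIdeal) := by
  classical
  have key : ∀ (i : ℕ) (b : B), b ∈ ℬ i → (b ∈ (x.asIdeal.homogeneousCore ℬ) ↔ b ∈ x.asIdeal) := by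
    intro i b hb
    constructor
    · intro h
      exact Ideal.toIdeal_homogeneousCore_le ℬ x.asIdeal h
    · intro h
      exact Ideal.mem_homogeneousCore_of_homogeneous_of_mem ⟨i, hb⟩ h
  have hne : ¬ (ℬ₊ ≤ x.asIdeal.homogeneousCore ℬ) := by
    intro h
    apply hx
    intro b hb
    rw [← DirectSum.sum_support_decompose ℬ b]
    apply sum_mem
    intro i _
    have hb' : (DirectSum.decompose ℬ b i : B) ∈ ℬ₊ := by
      by_cases hi : i = 0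
      · subst hi
        have h0 : (DirectSum.decompose ℬ b 0 : B) = 0 := hb
        rw [h0]
        exact zero_mem _
      · exact HomogeneousIdeal.mem_irrelevant_of_mem _ (Nat.pos_of_ne_zero hi) (SetLike.coe_mem _)
    exact (key i _ (SetLike.coe_mem _)).mp (h hb')
  have hprime : (x.asIdeal.homogeneousCore ℬ).toIdeal.IsPrime := x.2.homogeneousCore
  exact ⟨⟨x.asIdeal.homogeneousCore ℬ, hprime, hne⟩, key⟩

/-- If a point of `Spec B` does not contain `ψ(A_+)` then its homogeneous core is in `domOpen`, and conversely. -/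
theorem exists_not_mem_of_core (ψ : 𝒜 →+*ᵍ ℬ) (x : Spec B) (p : Proj ℬ)
    (hp : ∀ (i : ℕ) (b : B), b ∈ ℬ i → (b ∈ p.asHomogeneousIdeal ↔ b ∈ x.asIdeal))
    (h : p ∈ RelCone.domOpen ψ) : ¬ (𝒜₊.toIdeal ≤ x.asIdeal.comap (ψ : A →+* B)) := by
  classical
  rw [RelCone.mem_domOpen] at h
  obtain ⟨f, hf, hfp⟩ := h
  intro hle
  apply hfp

  rw [← DirectSum.sum_support_decompose 𝒜 f, map_sum]
  apply sum_mem
  intro i _
  have hmem : (DirectSum.decompose 𝒜 f i : A) ∈ 𝒜₊ := by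
    by_cases hi : i = 0
    · subst hi
      have h0 : (DirectSum.decompose 𝒜 f 0 : A) = 0 := hf
      rw [h0]
      exact zero_mem _
    · exact HomogeneousIdeal.mem_irrelevant_of_mem _ (Nat.pos_of_ne_zero hi) (SetLike.coe_mem _)
  exact (hp i _ (ψ.map_mem (SetLike.coe_mem _))).mpr (hle hmem)

end ring

variable {Y : Scheme.{u}} (𝒮 : RelProj.QCGrAlg Y)

theorem vertexCompl_res_iff {U W : Y.Opens} (hU : IsAffineOpen U) (hW : IsAffineOpen W) (r : Γ(Y, U))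
    (h : Y.basicOpen r = W) (i : W ≤ U) (w : Spec (𝒮.presheaf.obj (op W))) :
    Spec.map (𝒮.presheaf.map (homOfLE i).op) w ∈ RelCone.vertexCompl (𝒮.deg U hU) ↔
      w ∈ RelCone.vertexCompl (𝒮.deg W hW) := by
  subst h
  exact vertexCompl_iff_comap (𝒮.res hU hW i) (𝒮.irrelevant_le_map U hU r) w

/-- The pointed cone in a chart. -/
theorem ι_mem_pointedCone_iff (U : Y.Opens) (hU : IsAffineOpen U) (x : Spec (𝒮.presheaf.obj (op U))) :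
    𝒮.toQCAlg.ι U hU x ∈ RelCone.pointedCone 𝒮 ↔ x ∈ RelCone.vertexCompl (𝒮.deg U hU) := by
  constructor
  · intro hx
    obtain ⟨⟨V, hV⟩, y, hy, hyx⟩ := Opens.mem_iSup.mp hx
    obtain ⟨f, g, W, hW, ef, eg, iU, iV, w, hwx, hwy⟩ := SpecBase.ι_eq_ι 𝒮.toQCAlg hU hV x y hyx.symm
    rw [← hwx, vertexCompl_res_iff 𝒮 hU hW f ef iU w, ← vertexCompl_res_iff 𝒮 hV hW g eg iV w, hwy]
    exact hy
  · intro hx
    exact Opens.mem_iSup.mpr ⟨⟨U, hU⟩, x, hx, rfl⟩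

section morphism

variable {Y' : Scheme.{u}} (q : Y' ⟶ Y) (𝒮' : RelProj.QCGrAlg Y')
    (u : 𝒮.presheaf ⟶ q.base _* 𝒮'.presheaf)
    (φ : ∀ (U : Y.Opens) (hU : IsAffineOpen U) (U' : Y'.Opens) (hU' : IsAffineOpen U') (_ : U' ≤ q ⁻¹ᵁ U),
      𝒮.deg U hU →+*ᵍ 𝒮'.deg U' hU')
    (hφ : ∀ (U : Y.Opens) (hU : IsAffineOpen U) (U' : Y'.Opens) (hU' : IsAffineOpen U') (hle : U' ≤ q ⁻¹ᵁ U),
      (φ U hU U' hU' hle).toRingHom =
        ((u.app (op U) : 𝒮.presheaf.obj (op U) ⟶ 𝒮'.presheaf.obj (op (q ⁻¹ᵁ U))) ≫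
          𝒮'.presheaf.map (homOfLE hle).op).hom)
    (Φ : 𝒮'.toQCAlg.spec ⟶ 𝒮.toQCAlg.spec)
    (hΦ : ∀ (U : Y.Opens) (hU : IsAffineOpen U) (U' : Y'.Opens) (hU' : IsAffineOpen U') (hle : U' ≤ q ⁻¹ᵁ U),
      𝒮'.toQCAlg.ι U' hU' ≫ Φ =
        Spec.map ((u.app (op U) : 𝒮.presheaf.obj (op U) ⟶ 𝒮'.presheaf.obj (op (q ⁻¹ᵁ U))) ≫
          𝒮'.presheaf.map (homOfLE hle).op) ≫ 𝒮.toQCAlg.ι U hU)

include hφ hΦ in
theorem Φ_mem_iff (U : Y.Opens) (hU : IsAffineOpen U) (U' : Y'.Opens) (hU' : IsAffineOpen U')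
    (hle : U' ≤ q ⁻¹ᵁ U) (x : Spec (𝒮'.presheaf.obj (op U'))) :
    Φ (𝒮'.toQCAlg.ι U' hU' x) ∈ RelCone.pointedCone 𝒮 ↔
      ¬ ((𝒮.deg U hU)₊.toIdeal ≤ x.asIdeal.comap (φ U hU U' hU' hle).toRingHom) := by
  rw [← Scheme.Hom.comp_apply, hΦ U hU U' hU' hle, Scheme.Hom.comp_apply, ι_mem_pointedCone_iff,
    mem_vertexCompl, hφ]
  rfl

theorem exists_pair (c : 𝒮'.toQCAlg.spec) :
    ∃ (U : Y.Opens) (_ : IsAffineOpen U) (U' : Y'.Opens) (hU' : IsAffineOpen U') (_ : U' ≤ q ⁻¹ᵁ U)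
      (x : Spec (𝒮'.presheaf.obj (op U'))), 𝒮'.toQCAlg.ι U' hU' x = c := by
  obtain ⟨_, ⟨U, hU, rfl⟩, hyU, -⟩ := Y.isBasis_affineOpens.exists_subset_of_mem_open
    (Set.mem_univ (q (𝒮'.toQCAlg.π c))) isOpen_univ
  obtain ⟨_, ⟨U', hU', rfl⟩, hyU', hle⟩ := Y'.isBasis_affineOpens.exists_subset_of_mem_open
    (show 𝒮'.toQCAlg.π c ∈ ((q ⁻¹ᵁ U : Y'.Opens) : Set Y') from hyU) (q ⁻¹ᵁ U).2
  obtain ⟨x, hx⟩ := SpecBase.exists_of_mem 𝒮'.toQCAlg U' hU' c hyU'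
  exact ⟨U, hU, U', hU', hle, x, hx⟩

include hφ hΦ in
theorem preimage_pointedCone_le : Φ ⁻¹ᵁ RelCone.pointedCone 𝒮 ≤ RelCone.pointedCone 𝒮' := by
  intro c hc
  obtain ⟨U, hU, U', hU', hle, x, rfl⟩ := exists_pair q 𝒮' c
  have hc' : Φ (𝒮'.toQCAlg.ι U' hU' x) ∈ RelCone.pointedCone 𝒮 := hc
  rw [Φ_mem_iff 𝒮 q 𝒮' u φ hφ Φ hΦ U hU U' hU' hle x] at hc'
  rw [ι_mem_pointedCone_iff]
  exact vertexCompl_of_comap (φ U hU U' hU' hle) x hc'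

include hφ hΦ in
theorem domOpen_eq_top_iff :
    (∀ (U : Y.Opens) (hU : IsAffineOpen U) (U' : Y'.Opens) (hU' : IsAffineOpen U') (hle : U' ≤ q ⁻¹ᵁ U),
        RelCone.domOpen (φ U hU U' hU' hle) = ⊤) ↔
      Φ ⁻¹ᵁ RelCone.pointedCone 𝒮 = RelCone.pointedCone 𝒮' := by
  constructor
  · intro h
    apply le_antisymm (preimage_pointedCone_le 𝒮 q 𝒮' u φ hφ Φ hΦ)
    intro c hc
    obtain ⟨U, hU, U', hU', hle, x, rfl⟩ := exists_pair q 𝒮' c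
    change Φ (𝒮'.toQCAlg.ι U' hU' x) ∈ RelCone.pointedCone 𝒮
    rw [Φ_mem_iff 𝒮 q 𝒮' u φ hφ Φ hΦ U hU U' hU' hle x]
    rw [ι_mem_pointedCone_iff] at hc
    obtain ⟨p, hp⟩ := exists_core x hc
    exact exists_not_mem_of_core (φ U hU U' hU' hle) x p hp (by rw [h]; trivial)
  · intro h U hU U' hU' hle
    rw [eq_top_iff]
    intro p _
    let x : Spec (𝒮'.presheaf.obj (op U')) := ⟨p.asHomogeneousIdeal.toIdeal, p.isPrime⟩
    have hx : 𝒮'.toQCAlg.ι U' hU' x ∈ RelCone.pointedCone 𝒮' := by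
      rw [ι_mem_pointedCone_iff]
      exact p.not_irrelevant_le
    rw [← h] at hx
    have hx' : Φ (𝒮'.toQCAlg.ι U' hU' x) ∈ RelCone.pointedCone 𝒮 := hx
    rw [Φ_mem_iff 𝒮 q 𝒮' u φ hφ Φ hΦ U hU U' hU' hle x, SetLike.not_le_iff_exists] at hx'
    obtain ⟨f, hf, hfx⟩ := hx'
    exact (RelCone.mem_domOpen _ _).mpr ⟨f, hf, hfx⟩

end morphism

end K37.ConePts
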