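import Groth.Agent.EGA2.K37.ConeProj
import Groth.Agent.EGA2.K37.ConePts

/-!
# The pointed projective cone is the complement of the vertex
-/

set_option autoImplicit false
universe u
open CategoryTheory CategoryTheory.Limits AlgebraicGeometry Opposite TopologicalSpace
open HomogeneousLocalization
open scoped HomogeneousIdeal

namespace K37.ConeProj2

variable {Y PC : Scheme.{u}} {𝒮 𝒮h : RelProj.QCGrAlg Y}
    {ι : 𝒮.toQCAlg ⟶ 𝒮h.toQCAlg} {z : 𝒮h.presheaf.obj (op ⊤)} (hz : RelCone.IsPolyOver 𝒮 𝒮h ι z)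
    {pC : PC ⟶ Y}
    {chartC : ∀ (U : Y.Opens) (hU : IsAffineOpen U), (((pC ⁻¹ᵁ U : PC.Opens) : Scheme.{u}) ≅ Proj (𝒮h.deg U hU))}
    (hPC : RelProj.IsRelProj 𝒮h pC chartC)

theorem mem_domOpen_res_iff {U W : Y.Opens} (hU : IsAffineOpen U) (hW : IsAffineOpen W) (r : Γ(Y, U))
    (h : Y.basicOpen r = W) (i : W ≤ U) (w : Proj (𝒮h.deg W hW)) :
    Proj.map (𝒮h.res hU hW i) (ProjBase.irr_of_eq 𝒮h hU hW r h i) w ∈
        RelCone.domOpen (RelProj.gradedHomAt ι hz.graded U hU) ↔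
      w ∈ RelCone.domOpen (RelProj.gradedHomAt ι hz.graded W hW) := by
  have hnat : ∀ f : 𝒮.presheaf.obj (op U), (𝒮h.presheaf.map (homOfLE i).op).hom ((ι.hom.app (op U)).hom f) =
      (ι.hom.app (op W)).hom ((𝒮.presheaf.map (homOfLE i).op).hom f) := fun f =>
    (congrArg (fun g => g.hom f) (ι.hom.naturality (homOfLE i).op)).symm
  rw [RelCone.mem_domOpen, RelCone.mem_domOpen]
  constructor
  · rintro ⟨f, hf, hfw⟩
    refine ⟨(𝒮.presheaf.map (homOfLE i).op).hom f, ConePts.map_irrelevant_le (𝒮.res hU hW i) hf, ?_⟩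
    intro hmem
    apply hfw
    change (𝒮h.presheaf.map (homOfLE i).op).hom ((ι.hom.app (op U)).hom f) ∈ w.asHomogeneousIdeal
    rw [hnat]
    exact hmem
  · rintro ⟨f, hf, hfw⟩
    by_contra hcon
    push Not at hcon
    apply hfw
    have h1 : (𝒮.deg W hW)₊.toIdeal ≤ (w.asHomogeneousIdeal.toIdeal).comap (ι.hom.app (op W)).hom := by
      refine le_trans (ProjBase.irr_of_eq 𝒮 hU hW r h i) ?_
      refine Ideal.map_le_iff_le_comap.mpr ?_
      intro g hg
      have := hcon g hg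
      change (ι.hom.app (op W)).hom ((𝒮.presheaf.map (homOfLE i).op).hom g) ∈ w.asHomogeneousIdeal
      rw [← hnat]
      exact this
    exact h1 hf

include hPC in
theorem emb_mem_pointedProjCone_iff (U : Y.Opens) (hU : IsAffineOpen U) (x : Proj (𝒮h.deg U hU)) :
    RelProj.emb pC chartC U hU x ∈ RelCone.pointedProjCone 𝒮 hz pC chartC ↔
      x ∈ RelCone.domOpen (RelProj.gradedHomAt ι hz.graded U hU) := by
  constructor
  · intro hx
    obtain ⟨⟨V, hV⟩, y, hy, hyx⟩ := Opens.mem_iSup.mp hx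
    obtain ⟨f, g, W, hW, ef, eg, iU, iV, w, hwx, hwy⟩ := ProjBase.emb_eq_emb hPC hU hV x y hyx.symm
    rw [← hwx, mem_domOpen_res_iff hz hU hW f ef iU w, ← mem_domOpen_res_iff hz hV hW g eg iV w, hwy]
    exact hy
  · intro hx
    exact Opens.mem_iSup.mpr ⟨⟨U, hU⟩, x, hx, rfl⟩

theorem ι_mem_awayι_iff (U : Y.Opens) (hU : IsAffineOpen U) (r : Spec (𝒮.presheaf.obj (op U))) {d : ℕ}
    (hd : 0 < d) {a : 𝒮.presheaf.obj (op U)} (ha : a ∈ 𝒮.deg U hU d) :
    RelProj.gradedHomAt ι hz.graded U hU a ∈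
      (Proj.awayι (𝒮h.deg U hU) (RelCone.restrictTop 𝒮h z U) (hz.deg_z U hU) one_pos
        (Spec.map (CommRingCat.ofHom (hz.awayZToBase U hU)) r)).asHomogeneousIdeal ↔ a ∈ r.asIdeal := by
  have h1 := PolyRing.mem_awayι_iff (hz.deg_z U hU) (hz.evalOne U hU) (hz.awayZToBase U hU)
        (ConeProj.thetaSpec hz U hU) r hd ((RelProj.gradedHomAt ι hz.graded U hU).map_mem ha)
  refine h1.trans ?_
  have e : hz.evalOne U hU (RelProj.gradedHomAt ι hz.graded U hU a) = a := ConeProj.evι hz U hU a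
  exact iff_of_eq (congrArg (· ∈ r.asIdeal) e)

variable {aug : 𝒮.toQCAlg ⟶ RelSpec.QCAlg.unit Y} {ε : Y ⟶ 𝒮.toQCAlg.spec}
    (hε : RelCone.IsVertex 𝒮 aug ε)
    {i : 𝒮.toQCAlg.spec ⟶ PC} (hi : RelCone.IsConeImm 𝒮 hz pC chartC i)

include hε hi in
theorem fromSpec_vertex (U : Y.Opens) (hU : IsAffineOpen U) :
    hU.fromSpec ≫ ε ≫ i = Spec.map (ConeBase.augAt aug U) ≫
      Spec.map (CommRingCat.ofHom (hz.awayZToBase U hU)) ≫
        Proj.awayι (𝒮h.deg U hU) (RelCone.restrictTop 𝒮h z U) (hz.deg_z U hU) one_pos ≫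
          RelProj.emb pC chartC U hU := by
  have h1 : hU.fromSpec ≫ ε = Spec.map (ConeBase.augAt aug U) ≫ 𝒮.toQCAlg.ι U hU := hε.chart U hU
  rw [reassoc_of% h1, hi U hU]

include hPC hε hi in
theorem emb_mem_range_iff (h0 : RelCone.StrZeroBij 𝒮) (haug : RelCone.IsAugmentation 𝒮 aug)
    (U : Y.Opens) (hU : IsAffineOpen U) (x : Proj (𝒮h.deg U hU)) :
    RelProj.emb pC chartC U hU x ∈ Set.range (ε ≫ i) ↔
      x ∉ RelCone.domOpen (RelProj.gradedHomAt ι hz.graded U hU) := by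
  classical
  rw [RelCone.mem_domOpen]
  push Not
  constructor
  · rintro ⟨y, hy⟩
    have hyU : y ∈ U := by
      have h1 : pC ((ε ≫ i) y) ∈ U := by rw [hy]; exact ProjBase.emb_mem pC chartC U hU x
      rw [← Scheme.Hom.comp_apply, Category.assoc, ConeProj.coneImm_p hz hPC hi, hε.comp_π] at h1
      exact h1
    have hyU' : y ∈ Set.range hU.fromSpec := by rw [hU.range_fromSpec]; exact hyU
    obtain ⟨q, rfl⟩ := hyU'
    have hx : x = Proj.awayι (𝒮h.deg U hU) (RelCone.restrictTop 𝒮h z U) (hz.deg_z U hU) one_pos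
        (Spec.map (CommRingCat.ofHom (hz.awayZToBase U hU)) (Spec.map (ConeBase.augAt aug U) q)) := by
      apply (RelProj.emb pC chartC U hU).isOpenEmbedding.injective
      rw [← hy, ← Scheme.Hom.comp_apply, fromSpec_vertex hz hε hi U hU]
      rfl
    intro f hf
    rw [← DirectSum.sum_support_decompose (𝒮.deg U hU) f, map_sum]
    apply sum_mem
    intro k _
    by_cases hk : k = 0
    · subst hk
      have h00 : (DirectSum.decompose (𝒮.deg U hU) f 0 : 𝒮.presheaf.obj (op U)) = 0 := hf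
      rw [h00, map_zero]
      exact zero_mem _
    · have hmem : (DirectSum.decompose (𝒮.deg U hU) f k : 𝒮.presheaf.obj (op U)) ∈ (𝒮.deg U hU)₊ :=
        HomogeneousIdeal.mem_irrelevant_of_mem _ (Nat.pos_of_ne_zero hk) (SetLike.coe_mem _)
      rw [hx]
      refine (ι_mem_awayι_iff hz U hU _ (Nat.pos_of_ne_zero hk) (SetLike.coe_mem _)).mpr ?_
      have h3 : (DirectSum.decompose (𝒮.deg U hU) f k : 𝒮.presheaf.obj (op U)) ∈
          RingHom.ker (ConeBase.augAt aug U).hom := by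
        rw [ConeBase.ker_augAt h0 haug U hU]
        exact hmem
      change (ConeBase.augAt aug U).hom _ ∈ q.asIdeal
      rw [RingHom.mem_ker] at h3
      rw [h3]
      exact zero_mem _
  · intro hx
    have hzx : RelCone.restrictTop 𝒮h z U ∉ x.asHomogeneousIdeal := by
      intro hzx
      apply x.not_irrelevant_le
      rw [HomogeneousIdeal.irrelevant_le]
      intro d hd b hb
      obtain ⟨c, hc, rfl⟩ := PolyRing.exists_expansion (RelProj.gradedHomAt ι hz.graded U hU)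
        (hz.deg_z U hU) (ConeProj.hsurj hz U hU) hb
      apply sum_mem
      intro k hk
      by_cases hk0 : k = 0
      · subst hk0
        have e : d - 0 = (d - 1) + 1 := by omega
        rw [e, pow_succ, ← mul_assoc]
        exact Ideal.mul_mem_left _ _ hzx
      · exact Ideal.mul_mem_right _ _ (hx _ (HomogeneousIdeal.mem_irrelevant_of_mem _ (Nat.pos_of_ne_zero hk0) (hc k)))
    have hxD : x ∈ Set.range (Proj.awayι (𝒮h.deg U hU) (RelCone.restrictTop 𝒮h z U) (hz.deg_z U hU) one_pos) := by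
      have := Proj.opensRange_awayι (𝒮h.deg U hU) (RelCone.restrictTop 𝒮h z U) (hz.deg_z U hU) one_pos
      have h2 : x ∈ Proj.basicOpen (𝒮h.deg U hU) (RelCone.restrictTop 𝒮h z U) := hzx
      rw [← this] at h2
      exact h2
    obtain ⟨w, rfl⟩ := hxD
    have := ConeProj.isIso_SpecMap hz U hU
    obtain ⟨r, rfl⟩ := (Spec.map (CommRingCat.ofHom (hz.awayZToBase U hU))).homeomorph.surjective w
    have hr : RingHom.ker (ConeBase.augAt aug U).hom ≤ r.asIdeal := by
      rw [ConeBase.ker_augAt h0 haug U hU]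
      rw [HomogeneousIdeal.toIdeal_irrelevant_le]
      intro d hd a ha
      have h1 := hx a (HomogeneousIdeal.mem_irrelevant_of_mem _ hd ha)
      exact (ι_mem_awayι_iff hz U hU r hd ha).mp h1
    have hr' := (ConeBase.ι_mem_range_iff hε.chart U hU r).mpr hr
    obtain ⟨y, hy⟩ := hr'
    refine ⟨y, ?_⟩
    rw [Scheme.Hom.comp_apply, hy, ← Scheme.Hom.comp_apply, hi U hU]
    rfl

include hPC hε hi in
theorem pointedProjCone_eq (h0 : RelCone.StrZeroBij 𝒮) (haug : RelCone.IsAugmentation 𝒮 aug) :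
    ((RelCone.pointedProjCone 𝒮 hz pC chartC : PC.Opens) : Set PC) = (Set.range (ε ≫ i))ᶜ := by
  ext c
  obtain ⟨U, hU, x, rfl⟩ := ProjBase.exists_chart pC chartC c
  rw [Set.mem_compl_iff, emb_mem_range_iff hz hPC hε hi h0 haug, not_not]
  exact emb_mem_pointedProjCone_iff hz hPC U hU x

end K37.ConeProj2
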