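import Groth.Agent.EGA2.K37.GenOne
import Groth.Agent.EGA2.K37.ProjRing

/-!
# Surjectivity in degree one implies surjectivity in positive degrees
-/

set_option autoImplicit false
universe u

namespace K37.GenSurj

variable {A B σ τ : Type u} [CommRing A] [SetLike σ A] [AddSubgroupClass σ A]
  [CommRing B] [SetLike τ B] [AddSubgroupClass τ B]
  {𝒜 : ℕ → σ} {ℬ : ℕ → τ} [GradedRing 𝒜] [GradedRing ℬ] (f : 𝒜 →+*ᵍ ℬ)

/-- If `ℬ` is generated in degree one and `f` is surjective in degree one, `f` is surjective in all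
positive degrees. -/
theorem posSurj (hgen : GenOne.Gen ℬ) (h1 : ∀ b ∈ ℬ 1, ∃ a ∈ 𝒜 1, f a = b) : ProjRing.PosSurj f := by
  have key : ∀ (d : ℕ) (b : B), b ∈ GenOne.one ℬ ^ (d + 1) → ∃ a ∈ 𝒜 (d + 1), f a = b := by
    intro d
    induction d with
    | zero =>
      intro b hb
      rw [zero_add, pow_one] at hb
      exact h1 b hb
    | succ d ih =>
      intro b hb
      rw [pow_succ] at hb
      refine Submodule.mul_induction_on hb ?_ ?_
      · intro m hm n hn
        obtain ⟨a, ha, rfl⟩ := ih m hm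
        obtain ⟨a', ha', rfl⟩ := h1 n hn
        exact ⟨a * a', SetLike.mul_mem_graded ha ha', map_mul f a a'⟩
      · rintro x y ⟨a, ha, rfl⟩ ⟨a', ha', rfl⟩
        exact ⟨a + a', add_mem ha ha', map_add f a a'⟩
  intro d hd b hb
  obtain ⟨k, rfl⟩ := Nat.exists_eq_succ_of_ne_zero hd.ne'
  exact key k b (GenOne.mem_pow hgen hd hb)

end K37.GenSurj
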