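import Groth.Agent.EGA2.K40.RelMul

/-!
# Generators of `O_P(l d)` over `X_f`, `f` a global section of degree `d`

* `restrictIso`: a module with a generator over `U` restricts to the structure module of `U`;
* `exists_powFrac_glob`: the section `f ^ l` of `O_P(l d)` over an open `X` contained in `X_f`.
-/

set_option autoImplicit false
universe u

open CategoryTheory CategoryTheory.Limits AlgebraicGeometry TopologicalSpace Opposite
open scoped HomogeneousIdeal

noncomputable section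

namespace K37.TwistGlob

open K34.OpenMap K40.RelSec K40.GrMul RelProj
open Groth.Agent.Fdesc.LocGen hiding sec res_sec

theorem restrictIso {X : Scheme.{u}} {L : X.Modules} {U : X.Opens} {e : Γ(L, U)} (he : IsGen e) :
    Nonempty (L.restrict U.ι ≅ Coh.structureModule (U : Scheme.{u})) := by
  have hU : U.ι ''ᵁ ⊤ ≤ U := by simp
  have h1 : IsGen (toRestrict (M := L) U.ι (U := ⊤) (res L hU e)) :=
    (isGen_toRestrict_iff _ _).mpr (he.res hU)
  have : IsIso (homOf (toRestrict (M := L) U.ι (U := ⊤) (res L hU e))) := by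
    rw [isIso_iff_isGen, sec_homOf]
    simpa using h1
  exact ⟨(asIso (homOf (toRestrict (M := L) U.ι (U := ⊤) (res L hU e)))).symm⟩

variable {S P : Scheme.{u}} {𝒮 : RelProj.QCGrAlg S} {p : P ⟶ S}
  {chart : ∀ (U : S.Opens) (hU : IsAffineOpen U), (((p ⁻¹ᵁ U : P.Opens) : Scheme.{u}) ≅ Proj (𝒮.deg U hU))}
  {n : ℤ} {L : P.Modules}
  {lam : ∀ (U : S.Opens) (hU : IsAffineOpen U),
    L ⟶ (Scheme.Modules.pushforward (emb p chart U hU)).obj (GrTwist.twist (𝒮.deg U hU) n)}

/-- The section `f ^ l` of `O(l d)` over an open contained in `X_f`. -/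
theorem exists_powFrac_glob (hP : IsRelProj 𝒮 p chart) (hL : IsRelTwist 𝒮 p chart n L lam) {d : ℕ}
    (f : ∀ (U : S.Opens) (hU : IsAffineOpen U), 𝒮.deg U hU d)
    (hf : ∀ (U : S.Opens) (hU : IsAffineOpen U) (r : Γ(S, U)),
      𝒮.res hU (hU.basicOpen r) (S.basicOpen_le r) (f U hU).1 = (f (S.basicOpen r) (hU.basicOpen r)).1)
    (l : ℤ) (hn : l * d = n) (X : P.Opens)
    (hX : ∀ (U : S.Opens) (hU : IsAffineOpen U) (y : Proj (𝒮.deg U hU)), y ∈ emb p chart U hU ⁻¹ᵁ X →
      (f U hU).1 ∉ (y : ProjectiveSpectrum (𝒮.deg U hU)).asHomogeneousIdeal) :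
    ∃ e : Γ(L, X), IsGen e ∧ ∀ (U : S.Opens) (hU : IsAffineOpen U),
      sec (emb p chart U hU) (lam U hU) X e = powFrac (f U hU) l n hn (emb p chart U hU ⁻¹ᵁ X) (hX U hU) := by
  obtain ⟨e, he⟩ := exists_sec p lam hL.bijective (fun U hU => K35.RelProjBasic.emb_preimage U hU) X
    (fun U hU => powFrac (f U hU) l n hn (emb p chart U hU ⁻¹ᵁ X) (hX U hU)) (by
      intro U hU r W' hW' s hW hs
      refine twist_sec_basicOpen_eq hP hL U hU r W' s _ _ (fun y hy hy' => ?_) hs
      refine Eq.trans ?_ (GrTwist.locMap_mk _ _ y _ _).symm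
      change Localization.mk _ _ = Localization.mk _ _
      congr 1
      · change (f (S.basicOpen r) (hU.basicOpen r)).1 ^ _ = 𝒮.res hU (hU.basicOpen r) (S.basicOpen_le r)
          ((f U hU).1 ^ _)
        rw [map_pow, hf]
      · apply Subtype.ext
        change (f (S.basicOpen r) (hU.basicOpen r)).1 ^ _ = 𝒮.res hU (hU.basicOpen r) (S.basicOpen_le r)
          ((f U hU).1 ^ _)
        rw [map_pow, hf])
  refine ⟨e, ?_, he⟩
  refine IsGen.of_cover (fun U : S.affineOpens => X ⊓ p ⁻¹ᵁ U.1) (fun U => inf_le_left) (cover p X) fun U => ?_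
  rw [← K40.RelMul.isGen_sec_iff hL U.1 U.2 inf_le_right, ← K34.OpenMap.res_sec, he U.1 U.2]
  exact (isGen_powFrac (f U.1 U.2) l n hn _ (hX U.1 U.2)).res _

end K37.TwistGlob
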