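import Groth.Agent.EGA2.K37.TwistGlob
import Groth.Agent.EGA2.K37.TwistComp
import Groth.Agent.EGA2.K37.ProjBase
import Groth.Agent.Ega3B.PullTensor

/-!
# Pullback of the twisting sheaves along the morphism of relative Proj's of a graded homomorphism

* `hom hh hLA hLB : LA ⟶ h_* LB`, `sec_hom`: in the charts it is `comapApp`;
* `nonempty_iso`: if `LA` is locally generated by powers of elements of degree one, `h^* LA ≅ LB`.
-/

set_option autoImplicit false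
set_option maxHeartbeats 400000
universe u

open CategoryTheory CategoryTheory.Limits AlgebraicGeometry TopologicalSpace Opposite
open scoped HomogeneousIdeal

noncomputable section

namespace K37.TwistPull

open K34.OpenMap K40.RelSec K40.GrMul RelProj GrTwist K37.TwistComp
open Groth.Agent.Fdesc.LocGen hiding sec res_sec


variable {Y PA PB : Scheme.{u}} {𝒜 ℬ : RelProj.QCGrAlg Y}
    {φ : 𝒜.toQCAlg ⟶ ℬ.toQCAlg} {hφ : RelProj.IsGradedHom φ}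
    {hirr : ∀ (U : Y.Opens) (hU : IsAffineOpen U),
      (ℬ.deg U hU)₊ ≤ ((𝒜.deg U hU)₊).map (RelProj.gradedHomAt φ hφ U hU)}
    {pA : PA ⟶ Y} {pB : PB ⟶ Y}
    {chartA : ∀ (U : Y.Opens) (hU : IsAffineOpen U), (((pA ⁻¹ᵁ U : PA.Opens) : Scheme.{u}) ≅ Proj (𝒜.deg U hU))}
    {chartB : ∀ (U : Y.Opens) (hU : IsAffineOpen U), (((pB ⁻¹ᵁ U : PB.Opens) : Scheme.{u}) ≅ Proj (ℬ.deg U hU))}
    {h : PB ⟶ PA} (hh : RelProj.IsRelProjMap φ hφ hirr chartA chartB h)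

theorem gradedHomAt_res (φ : 𝒜.toQCAlg ⟶ ℬ.toQCAlg) (hφ : RelProj.IsGradedHom φ) {U V : Y.Opens}
    (hU : IsAffineOpen U) (hV : IsAffineOpen V) (i : V ≤ U) (a : 𝒜.presheaf.obj (op U)) :
    ℬ.res hU hV i (gradedHomAt φ hφ U hU a) = gradedHomAt φ hφ V hV (𝒜.res hU hV i a) :=
  (congr(($(φ.hom.naturality (homOfLE i).op)).hom a)).symm

include hh in
theorem sub (W : PA.Opens) (U : Y.Opens) (hU : IsAffineOpen U) :
    emb pB chartB U hU ⁻¹ᵁ (h ⁻¹ᵁ W) ≤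
      Proj.map (gradedHomAt φ hφ U hU) (hirr U hU) ⁻¹ᵁ (emb pA chartA U hU ⁻¹ᵁ W) := by
  rw [← Scheme.Hom.comp_preimage, ← Scheme.Hom.comp_preimage, ProjBase.emb_comp hh U hU]

variable {n : ℤ} {LA : PA.Modules} {LB : PB.Modules}
    {lamA : ∀ (U : Y.Opens) (hU : IsAffineOpen U),
      LA ⟶ (Scheme.Modules.pushforward (RelProj.emb pA chartA U hU)).obj (GrTwist.twist (𝒜.deg U hU) n)}
    {lamB : ∀ (U : Y.Opens) (hU : IsAffineOpen U),
      LB ⟶ (Scheme.Modules.pushforward (RelProj.emb pB chartB U hU)).obj (GrTwist.twist (ℬ.deg U hU) n)}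

include hh in
/-- the reading of the image of a section. -/
def img (lamA : ∀ (U : Y.Opens) (hU : IsAffineOpen U),
      LA ⟶ (Scheme.Modules.pushforward (RelProj.emb pA chartA U hU)).obj (GrTwist.twist (𝒜.deg U hU) n))
    (W : PA.Opens) (U : Y.Opens) (hU : IsAffineOpen U) :
    Γ(LA, W) →+ Γ(GrTwist.twist (ℬ.deg U hU) n, emb pB chartB U hU ⁻¹ᵁ (h ⁻¹ᵁ W)) :=
  (comapΓ (gradedHomAt φ hφ U hU) (hirr U hU) n (emb pA chartA U hU ⁻¹ᵁ W)
    (emb pB chartB U hU ⁻¹ᵁ (h ⁻¹ᵁ W)) (sub hh W U hU)).comp (sec (emb pA chartA U hU) (lamA U hU) W)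

theorem img_apply (W : PA.Opens) (U : Y.Opens) (hU : IsAffineOpen U) (s : Γ(LA, W)) :
    img hh lamA W U hU s = comapΓ (gradedHomAt φ hφ U hU) (hirr U hU) n (emb pA chartA U hU ⁻¹ᵁ W)
      (emb pB chartB U hU ⁻¹ᵁ (h ⁻¹ᵁ W)) (sub hh W U hU) (sec (emb pA chartA U hU) (lamA U hU) W s) := rfl

theorem res_img {W W' : PA.Opens} (hW : W' ≤ W) (U : Y.Opens) (hU : IsAffineOpen U) (s : Γ(LA, W)) :
    res (GrTwist.twist (ℬ.deg U hU) n) ((emb pB chartB U hU).preimage_mono (h.preimage_mono hW))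
      (img hh lamA W U hU s) = img hh lamA W' U hU (res LA hW s) := by
  rw [img_apply, img_apply, ← K34.OpenMap.res_sec]
  exact res_comapΓ _ _ _ _ _ _ _ _

theorem compat_img (hA : IsRelProj 𝒜 pA chartA) (hLA : IsRelTwist 𝒜 pA chartA n LA lamA)
    (W : PA.Opens) (s : Γ(LA, W)) (U : Y.Opens) (hU : IsAffineOpen U) (r : Γ(Y, U))
    (y : ProjectiveSpectrum (ℬ.deg (Y.basicOpen r) (hU.basicOpen r)))
    (hy : y ∈ emb pB chartB (Y.basicOpen r) (hU.basicOpen r) ⁻¹ᵁ (h ⁻¹ᵁ W))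
    (hy' : ProjectiveSpectrum.comap (ℬ.res hU (hU.basicOpen r) (Y.basicOpen_le r)) (ℬ.irrelevant_le_map U hU r) y ∈
      emb pB chartB U hU ⁻¹ᵁ (h ⁻¹ᵁ W)) :
    GrTwist.val (img hh lamA W (Y.basicOpen r) (hU.basicOpen r) s) ⟨y, hy⟩ =
      locMap (ℬ.res hU (hU.basicOpen r) (Y.basicOpen_le r)) (ℬ.irrelevant_le_map U hU r) y
        (GrTwist.val (img hh lamA W U hU s) ⟨_, hy'⟩) := by
  have h1 : ProjectiveSpectrum.comap (gradedHomAt φ hφ (Y.basicOpen r) (hU.basicOpen r))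
      (hirr (Y.basicOpen r) (hU.basicOpen r)) y ∈ emb pA chartA (Y.basicOpen r) (hU.basicOpen r) ⁻¹ᵁ W :=
    sub hh W (Y.basicOpen r) (hU.basicOpen r) hy
  have h2 := emb_comap_mem hA U hU r W _ h1
  have h3 := hLA.compat U hU r W s _ h1 h2
  rw [img_apply, img_apply]
  refine (val_comapΓ _ _ _ _ _ _ _ _).trans ?_
  refine Eq.trans ?_ (congrArg _ (val_comapΓ _ _ _ _ _ _ _ _)).symm
  refine (congrArg _ h3).trans ?_
  exact locMap_locMap_eq (𝒜.res hU (hU.basicOpen r) (Y.basicOpen_le r)) (𝒜.irrelevant_le_map U hU r)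
    (gradedHomAt φ hφ (Y.basicOpen r) (hU.basicOpen r)) (hirr (Y.basicOpen r) (hU.basicOpen r))
    (gradedHomAt φ hφ U hU) (hirr U hU)
    (ℬ.res hU (hU.basicOpen r) (Y.basicOpen_le r)) (ℬ.irrelevant_le_map U hU r)
    (fun a => (gradedHomAt_res φ hφ hU (hU.basicOpen r) (Y.basicOpen_le r) a).symm) y _ _ _ _

theorem app_congr {X Z : Scheme.{u}} {a b : X ⟶ Z} (e : a = b) (W : Z.Opens) (c : Γ(Z, W))
    (hle : a ⁻¹ᵁ W ≤ b ⁻¹ᵁ W) : a.app W c = ores hle (b.app W c) := by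
  subst e
  rw [ores_refl]

theorem app_app_congr {X X₁ X₂ Z : Scheme.{u}} {a₁ : X ⟶ X₁} {a₂ : X₁ ⟶ Z} {b₁ : X ⟶ X₂} {b₂ : X₂ ⟶ Z}
    (e : a₁ ≫ a₂ = b₁ ≫ b₂) (W : Z.Opens) (c : Γ(Z, W))
    (hle : a₁ ⁻¹ᵁ (a₂ ⁻¹ᵁ W) ≤ b₁ ⁻¹ᵁ (b₂ ⁻¹ᵁ W)) :
    a₁.app (a₂ ⁻¹ᵁ W) (a₂.app W c) = ores hle (b₁.app (b₂ ⁻¹ᵁ W) (b₂.app W c)) :=
  app_congr e W c hle

theorem exists_img (hA : IsRelProj 𝒜 pA chartA) (hB : IsRelProj ℬ pB chartB)
    (hLA : IsRelTwist 𝒜 pA chartA n LA lamA) (hLB : IsRelTwist ℬ pB chartB n LB lamB)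
    (W : PA.Opens) (s : Γ(LA, W)) :
    ∃ t : Γ(LB, h ⁻¹ᵁ W), ∀ (U : Y.Opens) (hU : IsAffineOpen U),
      sec (emb pB chartB U hU) (lamB U hU) (h ⁻¹ᵁ W) t = img hh lamA W U hU s := by
  refine exists_sec pB lamB hLB.bijective (fun U hU => K35.RelProjBasic.emb_preimage U hU) (h ⁻¹ᵁ W)
    (fun U hU => img hh lamA W U hU s) ?_
  intro U hU r W' hW' t hW'D ht
  refine twist_sec_basicOpen_eq hB hLB U hU r W' t _ _ (fun y hy hy' => ?_) ht
  exact compat_img hh hA hLA W s U hU r y (hW' hy) (hW' hy')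

theorem exists_hom (hA : IsRelProj 𝒜 pA chartA) (hB : IsRelProj ℬ pB chartB)
    (hLA : IsRelTwist 𝒜 pA chartA n LA lamA) (hLB : IsRelTwist ℬ pB chartB n LB lamB) :
    ∃ θ : LA ⟶ (Scheme.Modules.pushforward h).obj LB, ∀ (W : PA.Opens) (s : Γ(LA, W)) (U : Y.Opens)
      (hU : IsAffineOpen U),
      sec (emb pB chartB U hU) (lamB U hU) (h ⁻¹ᵁ W) (sec h θ W s) = img hh lamA W U hU s := by
  choose t ht using exists_img hh hA hB hLA hLB
  let f : ∀ W : PA.Opens, Γ(LA, W) →+ Γ((Scheme.Modules.pushforward h).obj LB, W) := fun W =>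
    { toFun := fun s => (t W s : Γ(LB, h ⁻¹ᵁ W))
      map_zero' := by
        refine sec_ext pB lamB hLB.bijective (s := (t W 0 : Γ(LB, h ⁻¹ᵁ W))) (s' := 0) fun U hU => ?_
        rw [ht, map_zero, map_zero]
      map_add' := fun a b => by
        refine sec_ext pB lamB hLB.bijective (s := (t W (a + b) : Γ(LB, h ⁻¹ᵁ W))) (s' := t W a + t W b)
          fun U hU => ?_
        rw [ht, map_add, map_add, ht, ht] }
  refine ⟨Groth.Agent.Fdesc.LocGen.mkHom f (fun W c m => ?_) (fun W W' hW m => ?_), fun W s U hU => ht W s U hU⟩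
  · refine sec_ext pB lamB hLB.bijective (s := (t W (c • m) : Γ(LB, h ⁻¹ᵁ W)))
      (s' := (h.app W c : Γ(PB, h ⁻¹ᵁ W)) • (t W m : Γ(LB, h ⁻¹ᵁ W))) fun U hU => ?_
    rw [ht, K34.OpenMap.sec_smul, ht, img_apply, img_apply, K34.OpenMap.sec_smul, comapΓ_smul]
    congr 1
    exact (app_app_congr (ProjBase.emb_comp hh U hU) W c (sub hh W U hU)).symm
  · refine sec_ext pB lamB hLB.bijective (s := (t W' (res LA hW m) : Γ(LB, h ⁻¹ᵁ W')))
      (s' := res LB (h.preimage_mono hW) (t W m : Γ(LB, h ⁻¹ᵁ W))) fun U hU => ?_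
    rw [ht, ← K34.OpenMap.res_sec, ht]
    exact (res_img hh hW U hU m).symm

include hh in
/-- Pullback of the twisting sheaf, if it is locally generated by powers of homogeneous elements. -/
theorem nonempty_iso (hA : IsRelProj 𝒜 pA chartA) (hB : IsRelProj ℬ pB chartB)
    (hLA : IsRelTwist 𝒜 pA chartA n LA lamA) (hLB : IsRelTwist ℬ pB chartB n LB lamB)
    (hex : ∀ x : PA, ∃ (U : Y.Opens) (hU : IsAffineOpen U) (d : ℕ) (f : 𝒜.deg U hU d) (l : ℤ) (W : PA.Opens),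
      l * d = n ∧ x ∈ W ∧ W ≤ pA ⁻¹ᵁ U ∧
      ∀ y ∈ emb pA chartA U hU ⁻¹ᵁ W, f.1 ∉ (y : ProjectiveSpectrum (𝒜.deg U hU)).asHomogeneousIdeal) :
    Nonempty ((Scheme.Modules.pullback h).obj LA ≅ LB) := by
  obtain ⟨θ, hθ⟩ := exists_hom hh hA hB hLA hLB
  let η : (Scheme.Modules.pullback h).obj LA ⟶ LB :=
    ((Scheme.Modules.pullbackPushforwardAdjunction h).homEquiv LA LB).symm θ
  have hη : ∀ (W : PA.Opens) (s : Γ(LA, W)), η.app (h ⁻¹ᵁ W) (pullSec h s) = sec h θ W s := by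
    intro W s
    rw [← homEquiv_app h η s, Equiv.apply_symm_apply]
    rfl
  have : IsIso η := by
    refine Groth.Agent.Ega3B.PullTensor.isIso_of_isGen η fun x => ?_
    obtain ⟨U, hU, d, f, l, W, hn, hxW, hWU, hW⟩ := hex (h x)
    obtain ⟨e, he, hg⟩ := K40.RelMul.exists_powFrac hLA U hU f l hn W hWU hW
    refine ⟨h ⁻¹ᵁ W, pullSec h e, hxW, hg.pullSec h, ?_⟩
    rw [hη]
    have hle : h ⁻¹ᵁ W ≤ pB ⁻¹ᵁ U := by
      rw [← ProjBase.comp_p hh hA hB, Scheme.Hom.comp_preimage]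
      exact h.preimage_mono hWU
    have hV : ∀ y ∈ emb pB chartB U hU ⁻¹ᵁ (h ⁻¹ᵁ W), gradedHomAt φ hφ U hU f.1 ∉
        (y : ProjectiveSpectrum (ℬ.deg U hU)).asHomogeneousIdeal := fun y hy => hW _ (sub hh W U hU hy)
    have h1 := hθ W e U hU
    rw [img_apply, he, comapΓ_powFrac _ _ _ _ _ _ _ _ _ _ hV] at h1
    refine (K40.RelMul.isGen_sec_iff hLB U hU hle (sec h θ W e : Γ(LB, h ⁻¹ᵁ W))).mp ?_
    rw [h1]
    exact isGen_powFrac _ _ _ _ _ _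
  exact ⟨asIso η⟩

end K37.TwistPull
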